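import Cfsg.Agent.H173.KGL.Base

/-!
# The action of `H` on `V = M Zc / Zc` (helper173, project KGL)
-/

set_option autoImplicit false
set_option linter.unusedSectionVars false

namespace Cfsg.Agent.H173.KGL

open Subgroup Cfsg.Agent.H475.KGL

universe u v

/-- `P` is a normal subgroup of prime order of `Q`, self-centralising and without fixed points on `V` -/
structure Frob {V : Type*} [Group V] (r : ℕ) (P Q : Subgroup (MulAut V)) : Prop where
  pr : r.Prime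
  le : P ≤ Q
  card : Nat.card P = r
  nor : ∀ q ∈ Q, ∀ a ∈ P, q * a * q⁻¹ ∈ P
  cen : ∀ a ∈ P, a ≠ 1 → ∀ q ∈ Q, a * q = q * a → q ∈ P
  fpf : ∀ a ∈ P, a ≠ 1 → ∀ v : V, a v = v → v = 1

/-- a subgroup of prime order is generated by each nontrivial element -/
theorem le_of_mem_prime {G : Type*} [Group G] {P K : Subgroup G} {r : ℕ} (hr : r.Prime) (hP : Nat.card P = r) {x : G}
    (hx : x ∈ P) (hx1 : x ≠ 1) (hxK : x ∈ K) : P ≤ K := by
  have hfin : Finite P := Nat.finite_of_card_ne_zero (by rw [hP]; exact hr.ne_zero)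
  have h1 : zpowers x ≤ P := by rwa [zpowers_le]
  have h2 : Nat.card (zpowers x) ∣ r := hP ▸ Subgroup.card_dvd_of_le h1
  rcases (Nat.dvd_prime hr).1 h2 with h3 | h3
  · rw [Nat.card_zpowers, orderOf_eq_one_iff] at h3
    exact absurd h3 hx1
  · have h4 : zpowers x = P := Subgroup.eq_of_le_of_card_ge h1 (by rw [h3, hP])
    rw [← h4, zpowers_le]
    exact hxK

namespace Frob

variable {V : Type*} [Group V] {r : ℕ} {P Q : Subgroup (MulAut V)}

theorem exists_ne (F : Frob r P Q) : ∃ c ∈ P, c ≠ 1 := by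
  by_contra hcon
  push Not at hcon
  have h1 : P = ⊥ := by
    rw [eq_bot_iff]
    exact fun c hc => mem_bot.2 (hcon c hc)
  have h2 := F.card
  rw [h1, Subgroup.card_bot] at h2
  exact F.pr.one_lt.ne h2

theorem le_of_mem (F : Frob r P Q) {x : MulAut V} (hx : x ∈ P) (hx1 : x ≠ 1) {K : Subgroup (MulAut V)} (hxK : x ∈ K) :
    P ≤ K := le_of_mem_prime F.pr F.card hx hx1 hxK

end Frob

section Defs

variable {H : Type u} [Group H] (M C : Subgroup H) [hZ : (Zc M C).Normal] [hM : M.Normal]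

/-- `V = M Zc / Zc` -/
def Vb : Subgroup (H ⧸ Zc M C) := M.map (QuotientGroup.mk' (Zc M C))

instance instVbNormal : (Vb M C).Normal := hM.map _ (QuotientGroup.mk'_surjective _)

/-- the action on `V` -/
def phi : H →* MulAut (Vb M C) := (MulAut.conjNormal).comp (QuotientGroup.mk' (Zc M C))

variable {M C}

theorem phi_apply (g : H) (v : Vb M C) : ((phi M C g v : Vb M C) : H ⧸ Zc M C) =
    QuotientGroup.mk' (Zc M C) g * v * (QuotientGroup.mk' (Zc M C) g)⁻¹ := rfl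

theorem mk_eq_one {g : H} : QuotientGroup.mk' (Zc M C) g = 1 ↔ g ∈ Zc M C := QuotientGroup.eq_one_iff g

/-- the class of an element of `M` -/
def vm (m : H) (hm : m ∈ M) : Vb M C := ⟨QuotientGroup.mk' (Zc M C) m, m, hm, rfl⟩

theorem exists_vm (v : Vb M C) : ∃ m, ∃ hm : m ∈ M, v = vm m hm := by
  obtain ⟨m, hm, h⟩ := v.2
  exact ⟨m, hm, Subtype.ext h.symm⟩

theorem phi_vm (g m : H) (hm : m ∈ M) : phi M C g (vm m hm) = vm (g * m * g⁻¹) (hM.conj_mem m hm g) := by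
  apply Subtype.ext
  rw [phi_apply]
  change QuotientGroup.mk' (Zc M C) g * QuotientGroup.mk' (Zc M C) m * (QuotientGroup.mk' (Zc M C) g)⁻¹ =
    QuotientGroup.mk' (Zc M C) (g * m * g⁻¹)
  rw [map_mul, map_mul, map_inv]

theorem vm_eq {m m' : H} (hm : m ∈ M) (hm' : m' ∈ M) : (vm m hm : Vb M C) = vm m' hm' ↔ m * m'⁻¹ ∈ Zc M C := by
  rw [Subtype.ext_iff]
  change QuotientGroup.mk' (Zc M C) m = QuotientGroup.mk' (Zc M C) m' ↔ _
  rw [← mk_eq_one, map_mul, map_inv, mul_inv_eq_one]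

theorem vm_eq_one {m : H} (hm : m ∈ M) : (vm m hm : Vb M C) = 1 ↔ m ∈ Zc M C := by
  rw [Subtype.ext_iff]
  exact mk_eq_one

end Defs

section Base

variable {p e : ℕ} [Fact p.Prime] {H : Type u} [Group H] [Finite H] {A M C : Subgroup H} {W : Type v}
  [AddCommGroup W] [Module (ZMod p) W] [Finite W] {ρ : C →* (W ≃ₗ[ZMod p] W)} [hZ : (Zc M C).Normal] [hM : M.Normal]

/-- `|M| = |V| |A|` -/
theorem card_V (h : BSit p e A M C ρ) : Nat.card M = Nat.card (Vb M C) * Nat.card A := by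
  set f := (QuotientGroup.mk' (Zc M C)).comp M.subtype with hf
  have h1 : Nat.card M = Nat.card f.ker * Nat.card f.range := by
    rw [← f.ker.card_mul_index, Subgroup.index_ker]
  have h2 : f.range = Vb M C := by
    rw [hf, MonoidHom.range_comp, M.range_subtype]
    rfl
  have h3 : f.ker = A.subgroupOf M := by
    ext x
    rw [MonoidHom.mem_ker, mem_subgroupOf]
    change QuotientGroup.mk' (Zc M C) (x : H) = 1 ↔ _
    rw [mk_eq_one]
    exact ⟨fun hx => mem_of_zc h x.2 hx, fun hx => le_zc h hx⟩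
  rw [h1, h2, h3, Nat.card_congr (subgroupOfEquivOfLe h.lt.le).toEquiv, mul_comm]

theorem V_comm (h : BSit p e A M C ρ) (hcm : ∀ x ∈ M, ∀ y ∈ M, x * y * x⁻¹ * y⁻¹ ∈ A) (v w : Vb M C) :
    v * w = w * v := by
  obtain ⟨m, hm, rfl⟩ := exists_vm v
  obtain ⟨m', hm', rfl⟩ := exists_vm w
  apply Subtype.ext
  change QuotientGroup.mk' (Zc M C) m * QuotientGroup.mk' (Zc M C) m' =
    QuotientGroup.mk' (Zc M C) m' * QuotientGroup.mk' (Zc M C) m
  have h1 := mk_eq_one.2 (le_zc h (hcm m hm m' hm'))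
  rw [map_mul, map_mul, map_mul, map_inv, map_inv, mul_inv_eq_one, mul_inv_eq_iff_eq_mul] at h1
  exact h1

theorem V_sq (h : BSit p e A M C ρ) (hsq : ∀ x ∈ M, x * x ∈ A) (v : Vb M C) : v * v = 1 := by
  obtain ⟨m, hm, rfl⟩ := exists_vm v
  apply Subtype.ext
  change QuotientGroup.mk' (Zc M C) m * QuotientGroup.mk' (Zc M C) m = 1
  rw [← map_mul]
  exact mk_eq_one.2 (le_zc h (hsq m hm))

/-- `V` is irreducible -/
theorem V_irr (h : BSit p e A M C ρ) (U : Subgroup (Vb M C)) (hU : ∀ g, ∀ u ∈ U, phi M C g u ∈ U) :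
    U = ⊥ ∨ U = ⊤ := by
  let B : Subgroup H :=
    { carrier := {m | ∃ hm : m ∈ M, vm m hm ∈ U}
      one_mem' := ⟨M.one_mem, by
        have : (vm 1 M.one_mem : Vb M C) = 1 := (vm_eq_one _).2 (one_mem _)
        rw [this]
        exact U.one_mem⟩
      mul_mem' := by
        rintro a b ⟨ha, ha'⟩ ⟨hb, hb'⟩
        exact ⟨M.mul_mem ha hb, U.mul_mem ha' hb'⟩
      inv_mem' := by
        rintro a ⟨ha, ha'⟩
        exact ⟨M.inv_mem ha, U.inv_mem ha'⟩ }
  have hB : B.Normal := ⟨by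
    rintro m ⟨hm, hm'⟩ g
    refine ⟨hM.conj_mem m hm g, ?_⟩
    rw [← phi_vm g m hm]
    exact hU g _ hm'⟩
  rcases h.chief B hB (fun a ha => ⟨h.lt.le ha, by
    have : (vm a (h.lt.le ha) : Vb M C) = 1 := (vm_eq_one _).2 (le_zc h ha)
    rw [this]
    exact U.one_mem⟩) (fun m hm => hm.1) with h1 | h1
  · left
    rw [eq_bot_iff]
    intro v hv
    obtain ⟨m, hm, rfl⟩ := exists_vm v
    have h2 : m ∈ B := ⟨hm, hv⟩
    rw [h1] at h2
    exact (vm_eq_one hm).2 (le_zc h h2)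
  · right
    rw [eq_top_iff]
    intro v _
    obtain ⟨m, hm, rfl⟩ := exists_vm v
    have h2 : m ∈ B := by rw [h1]; exact hm
    exact h2.2

/-- the elements of `C` acting trivially on `V` -/
theorem phi_eq_one (h : BSit p e A M C ρ) (hsq : ∀ x ∈ M, x * x ∈ A)
    (hcm : ∀ x ∈ M, ∀ y ∈ M, x * y * x⁻¹ * y⁻¹ ∈ A) {d : H} (hd : d ∈ C) (h1 : phi M C d = 1) :
    ∃ m ∈ M, m⁻¹ * d ∈ Zc M C := by
  refine exists_mul h hsq hcm hd fun m hm => ?_
  have h2 := phi_vm (C := C) d m hm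
  rw [h1, MulAut.one_apply, eq_comm, vm_eq] at h2
  exact mem_of_zc h (M.mul_mem (hM.conj_mem m hm d) (M.inv_mem hm)) h2

/-- elements over `V` act trivially -/
theorem phi_of_mem (h : BSit p e A M C ρ) (hcm : ∀ x ∈ M, ∀ y ∈ M, x * y * x⁻¹ * y⁻¹ ∈ A) {g : H}
    (hg : QuotientGroup.mk' (Zc M C) g ∈ Vb M C) : phi M C g = 1 := by
  ext v
  rw [phi_apply, MulAut.one_apply]
  have h1 := congrArg Subtype.val (V_comm h hcm ⟨_, hg⟩ v)
  change QuotientGroup.mk' (Zc M C) g * v = v * QuotientGroup.mk' (Zc M C) g at h1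
  rw [h1, mul_inv_cancel_right]

/-- **the dichotomy for subnormal subgroups** -/
theorem subn (h : BSit p e A M C ρ) (hcm : ∀ x ∈ M, ∀ y ∈ M, x * y * x⁻¹ * y⁻¹ ∈ A) {r : ℕ}
    {P : Subgroup (MulAut (Vb M C))} (F : Frob r P (phi M C).range) {N : Subgroup H} (hN : N.IsSubnormal) :
    (∀ n ∈ N, phi M C n = 1) ∨ (P ≤ N.map (phi M C) ∧ Vb M C ≤ N.map (QuotientGroup.mk' (Zc M C))) := by
  induction hN with
  | top =>
    right
    refine ⟨F.le.trans (le_of_eq (MonoidHom.range_eq_map _)), ?_⟩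
    exact map_mono le_top
  | step N K hNK _ hn ih =>
    rcases ih with ih | ⟨ih1, ih2⟩
    · exact Or.inl fun n hn => ih n (hNK hn)
    by_cases h0 : ∀ n ∈ N, phi M C n = 1
    · exact Or.inl h0
    right
    push Not at h0
    obtain ⟨n, hnN, hn1⟩ := h0
    have hconj : ∀ k ∈ K, ∀ n ∈ N, k * n * k⁻¹ ∈ N := fun k hk n hnN =>
      mem_subgroupOf.1 (hn.conj_mem ⟨n, hNK hnN⟩ (mem_subgroupOf.2 hnN) ⟨k, hk⟩)
    -- `N` covers `P`
    obtain ⟨c, hcP, hc1⟩ := F.exists_ne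
    have hP : P ≤ N.map (phi M C) := by
      obtain ⟨k, hk, hkc⟩ := ih1 hcP
      have h1 : phi M C (k * n * k⁻¹ * n⁻¹) = c * (phi M C n * c⁻¹ * (phi M C n)⁻¹) := by
        rw [map_mul, map_mul, map_mul, map_inv, map_inv, hkc]
        group
      have h2 : phi M C n * c⁻¹ * (phi M C n)⁻¹ ∈ P := F.nor _ ⟨n, rfl⟩ _ (P.inv_mem hcP)
      by_cases h3 : phi M C (k * n * k⁻¹ * n⁻¹) = 1
      · have h4 : c * phi M C n = phi M C n * c := by
          rw [h1, ← mul_assoc, ← mul_assoc, mul_inv_eq_one, mul_inv_eq_iff_eq_mul] at h3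
          exact h3
        exact F.le_of_mem (F.cen c hcP hc1 _ ⟨n, rfl⟩ h4) hn1 ⟨n, hnN, rfl⟩
      · refine F.le_of_mem ?_ h3 ⟨_, N.mul_mem (hconj k hk n hnN) (N.inv_mem hnN), rfl⟩
        rw [h1]
        exact P.mul_mem hcP h2
    refine ⟨hP, ?_⟩
    obtain ⟨x, hx, hxc⟩ := hP hcP
    -- `v ↦ c(v) v⁻¹` is onto
    have hVc := V_comm h hcm
    have hinj : Function.Injective fun v : Vb M C => c v * v⁻¹ := by
      intro v w hvw
      have h1 : c v * v⁻¹ = c w * w⁻¹ := hvw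
      have h2 : c (w⁻¹ * v) = w⁻¹ * v := by
        rw [map_mul, map_inv, inv_mul_eq_iff_eq_mul]
        rw [mul_inv_eq_iff_eq_mul] at h1
        rw [h1, mul_assoc]
      have h3 := F.fpf c hcP hc1 _ h2
      exact (inv_mul_eq_one.1 h3).symm
    have hsurj := Finite.surjective_of_injective hinj
    intro v hv
    obtain ⟨w, hw⟩ := hsurj ⟨v, hv⟩
    obtain ⟨k, hk, hkw⟩ := ih2 w.2
    refine ⟨x * k * x⁻¹ * k⁻¹, ?_, ?_⟩
    · have h1 := hconj k hk _ (N.inv_mem hx)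
      have e : x * k * x⁻¹ * k⁻¹ = x * (k * x⁻¹ * k⁻¹) := by group
      rw [e]
      exact N.mul_mem hx h1
    · have h1 : ((c w * w⁻¹ : Vb M C) : H ⧸ Zc M C) = v := congrArg Subtype.val hw
      rw [map_mul, map_mul, map_mul, map_inv, map_inv, hkw, ← h1, ← hxc]
      rfl

end Base

end Cfsg.Agent.H173.KGL
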