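import Cfsg.Agent.H173.KGL.Count

/-!
# The basic situation with `M / A` a 2-group (helper173, project KGL)

* `Zc M C` : the centraliser of `M` in `C`; it is normal, central in `C`, has at most `q - 1` elements and at most one
  involution; `M ⊓ Zc = A`;
* `sq_mem`, `comm_mem` : `M / A` is elementary abelian;
* `exists_mul` : an element of `C` which is trivial on `M / A` lies in `M Zc`.
-/

set_option autoImplicit false
set_option linter.unusedSectionVars false

namespace Cfsg.Agent.H173.KGL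

open Subgroup Cfsg.Agent.H475.KGL

universe u v

section Base

variable {p e : ℕ} [Fact p.Prime] {H : Type u} [Group H] [Finite H] {A M C : Subgroup H} {W : Type v}
  [AddCommGroup W] [Module (ZMod p) W] [Finite W] {ρ : C →* (W ≃ₗ[ZMod p] W)}

/-- the centraliser of `M` in `C` -/
def Zc (M C : Subgroup H) : Subgroup H := C ⊓ centralizer (M : Set H)

theorem mem_zc {M C : Subgroup H} {z : H} : z ∈ Zc M C ↔ z ∈ C ∧ ∀ m ∈ M, m * z = z * m := by
  rw [Zc, mem_inf, mem_centralizer_iff]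
  rfl

theorem zc_normal (h : BSit p e A M C ρ) : (Zc M C).Normal := by
  have := h.nM
  have := h.nC
  unfold Zc
  infer_instance

/-- `Zc` is central in `C` -/
theorem zc_comm (h : BSit p e A M C ρ) {z c : H} (hz : z ∈ Zc M C) (hc : c ∈ C) : z * c = c * z := by
  obtain ⟨hzC, hzM⟩ := mem_zc.1 hz
  have h1 := h.endC ((ρ ⟨z, hzC⟩ : W ≃ₗ[ZMod p] W) : W →ₗ[ZMod p] W) (fun m hm w => by
    change ρ ⟨z, hzC⟩ (ρ m w) = ρ m (ρ ⟨z, hzC⟩ w)
    have h2 : (⟨z, hzC⟩ : C) * m = m * ⟨z, hzC⟩ := Subtype.ext (hzM m hm).symm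
    have h3 := congrArg (fun x : C => ρ x w) h2
    simp only [map_mul] at h3
    exact h3)
  have h2 : (⟨z, hzC⟩ : C) * ⟨c, hc⟩ = ⟨c, hc⟩ * ⟨z, hzC⟩ := by
    apply h.inj
    rw [map_mul, map_mul]
    exact LinearEquiv.ext fun w => h1 ⟨c, hc⟩ w
  exact congrArg Subtype.val h2

/-- `|Zc| ≤ q - 1` -/
theorem card_zc (h : BSit p e A M C ρ) : Nat.card (Zc M C) ≤ p ^ e - 1 := by
  have hnt := h.nt
  have hfin : Finite {f : W →ₗ[ZMod p] W // ∀ m : C, (m : H) ∈ M → ∀ w, f (ρ m w) = ρ m (f w)} := by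
    have : Finite (W →ₗ[ZMod p] W) := DFunLike.finite _
    infer_instance
  have h1 : Nat.card (Option (Zc M C)) ≤
      Nat.card {f : W →ₗ[ZMod p] W // ∀ m : C, (m : H) ∈ M → ∀ w, f (ρ m w) = ρ m (f w)} := by
    refine Nat.card_le_card_of_injective (fun o => match o with
      | none => ⟨0, fun m hm w => by simp⟩
      | some z => ⟨((ρ ⟨z, (mem_zc.1 z.2).1⟩ : W ≃ₗ[ZMod p] W) : W →ₗ[ZMod p] W), fun m hm w => by
          change ρ ⟨z, (mem_zc.1 z.2).1⟩ (ρ m w) = ρ m (ρ ⟨z, (mem_zc.1 z.2).1⟩ w)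
          have h2 : (⟨z, (mem_zc.1 z.2).1⟩ : C) * m = m * ⟨z, (mem_zc.1 z.2).1⟩ :=
            Subtype.ext ((mem_zc.1 z.2).2 m hm).symm
          have h3 := congrArg (fun x : C => ρ x w) h2
          simp only [map_mul] at h3
          exact h3⟩) ?_
    have hne : ∀ x : C, ((ρ x : W ≃ₗ[ZMod p] W) : W →ₗ[ZMod p] W) ≠ 0 := by
      intro x hx
      obtain ⟨w, hw⟩ := exists_ne (0 : W)
      have h2 : ρ x w = 0 := LinearMap.congr_fun hx w
      exact hw ((LinearEquiv.map_eq_zero_iff _).1 h2)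
    rintro (_ | z) (_ | z') hzz
    · rfl
    · exact absurd (congrArg Subtype.val hzz).symm (hne _)
    · exact absurd (congrArg Subtype.val hzz) (hne _)
    · have h2 : ((ρ ⟨z, (mem_zc.1 z.2).1⟩ : W ≃ₗ[ZMod p] W) : W →ₗ[ZMod p] W) =
          ((ρ ⟨z', (mem_zc.1 z'.2).1⟩ : W ≃ₗ[ZMod p] W) : W →ₗ[ZMod p] W) := congrArg Subtype.val hzz
      have h3 := h.inj (LinearEquiv.toLinearMap_injective h2)
      exact congrArg some (Subtype.ext (congrArg (fun x : C => (x : H)) h3))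
  rw [h.endq, Finite.card_option] at h1
  omega

/-- an involution of `Zc` acts as `-1` -/
theorem zc_neg (h : BSit p e A M C ρ) {z : H} (hz : z ∈ Zc M C) (h2 : z * z = 1) (h1 : z ≠ 1) (w : W) :
    ρ ⟨z, (mem_zc.1 hz).1⟩ w = -w := by
  obtain ⟨hzC, hzM⟩ := mem_zc.1 hz
  set f := ρ ⟨z, hzC⟩ with hf
  have hff : ∀ w, f (f w) = w := by
    intro w
    have h3 : f * f = 1 := by
      rw [hf, ← map_mul]
      have : (⟨z, hzC⟩ : C) * ⟨z, hzC⟩ = 1 := Subtype.ext h2
      rw [this, map_one]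
    exact LinearEquiv.congr_fun h3 w
  -- the fixed space
  rcases h.irr (LinearMap.ker ((f : W →ₗ[ZMod p] W) - LinearMap.id)) (fun m hm u hu => by
    rw [LinearMap.mem_ker, LinearMap.sub_apply, LinearMap.id_apply, sub_eq_zero] at hu ⊢
    change f (ρ m u) = ρ m u
    have h4 : (⟨z, hzC⟩ : C) * m = m * ⟨z, hzC⟩ := Subtype.ext (hzM m hm).symm
    have h5 := congrArg (fun x : C => ρ x u) h4
    simp only [map_mul] at h5
    have h6 : f (ρ m u) = ρ m (f u) := h5
    rw [h6]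
    exact congrArg (ρ m) hu) with h3 | h3
  · have h4 : f w + w ∈ LinearMap.ker ((f : W →ₗ[ZMod p] W) - LinearMap.id) := by
      rw [LinearMap.mem_ker, LinearMap.sub_apply, LinearMap.id_apply, sub_eq_zero]
      change f (f w + w) = f w + w
      rw [map_add, hff, add_comm]
    rw [h3, Submodule.mem_bot] at h4
    exact eq_neg_of_add_eq_zero_left h4
  · exfalso
    apply h1
    have h4 : f = 1 := by
      ext w
      have h5 : w ∈ LinearMap.ker ((f : W →ₗ[ZMod p] W) - LinearMap.id) := by rw [h3]; trivial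
      rw [LinearMap.mem_ker, LinearMap.sub_apply, LinearMap.id_apply, sub_eq_zero] at h5
      exact h5
    have h5 : (⟨z, hzC⟩ : C) = 1 := h.inj (by rw [← hf, h4, map_one])
    exact congrArg Subtype.val h5

/-- `Zc` has at most one involution -/
theorem zc_inv (h : BSit p e A M C ρ) {z z' : H} (hz : z ∈ Zc M C) (hz' : z' ∈ Zc M C) (h2 : z * z = 1)
    (h2' : z' * z' = 1) (h1 : z ≠ 1) (h1' : z' ≠ 1) : z = z' := by
  have h3 : (⟨z, (mem_zc.1 hz).1⟩ : C) = ⟨z', (mem_zc.1 hz').1⟩ := by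
    apply h.inj
    ext w
    rw [zc_neg h hz h2 h1, zc_neg h hz' h2' h1']
  exact congrArg Subtype.val h3

/-- `Z(M) = A` -/
theorem mem_of_comm (h : BSit p e A M C ρ) {x : H} (hx : x ∈ M) (hc : ∀ m ∈ M, m * x = x * m) : x ∈ A := by
  have := h.nM
  have h1 := h.max (M ⊓ centralizer (M : Set H)) inferInstance
    (fun a ha => ⟨h.lt.le ha, mem_centralizer_iff.2 fun m hm => (h.com a ha m hm).symm⟩) inf_le_left
    (fun a ha b hb => mem_centralizer_iff.1 hb.2 a ha.1)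
  rw [← h1]
  exact ⟨hx, mem_centralizer_iff.2 hc⟩

theorem le_zc (h : BSit p e A M C ρ) : A ≤ Zc M C := fun a ha =>
  mem_zc.2 ⟨h.le (h.lt.le ha), fun m hm => (h.com a ha m hm).symm⟩

theorem mem_of_zc (h : BSit p e A M C ρ) {x : H} (hx : x ∈ M) (hz : x ∈ Zc M C) : x ∈ A :=
  mem_of_comm h hx (mem_zc.1 hz).2

theorem inf_zc (h : BSit p e A M C ρ) : M ⊓ Zc M C = A :=
  le_antisymm (fun _ hx => mem_of_zc h hx.1 hx.2) (le_inf h.lt.le (le_zc h))

/-- `M` is not abelian -/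
theorem exists_ne_comm (h : BSit p e A M C ρ) : ∃ x ∈ M, ∃ y ∈ M, x * y ≠ y * x := by
  by_contra hcon
  push Not at hcon
  exact h.lt.ne (h.max M h.nM h.lt.le le_rfl hcon).symm

/-- `M / A` is abelian -/
theorem comm_mem (h : BSit p e A M C ρ) {k : ℕ} (hk : Nat.card M = 2 ^ k * Nat.card A) :
    ∀ x ∈ M, ∀ y ∈ M, x * y * x⁻¹ * y⁻¹ ∈ A := by
  have hA := h.nA
  have hM := h.nM
  set f := QuotientGroup.mk' A with hf
  have hker : ∀ x, f x = 1 ↔ x ∈ A := fun x => by rw [hf, QuotientGroup.mk'_apply, QuotientGroup.eq_one_iff]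
  set Mb := M.map f with hMb
  have hcard : Nat.card Mb = 2 ^ k := by
    have h1 : Nat.card M = Nat.card (f.comp M.subtype).ker * Nat.card (f.comp M.subtype).range := by
      rw [← (f.comp M.subtype).ker.card_mul_index, Subgroup.index_ker]
    have h2 : (f.comp M.subtype).range = Mb := by
      rw [MonoidHom.range_comp, M.range_subtype]
    have h3 : Nat.card (f.comp M.subtype).ker = Nat.card A := by
      have : (f.comp M.subtype).ker = A.subgroupOf M := by
        ext x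
        rw [MonoidHom.mem_ker, mem_subgroupOf]
        exact hker x
      rw [this]
      exact Nat.card_congr (subgroupOfEquivOfLe h.lt.le).toEquiv
    rw [h2, h3, hk, mul_comm] at h1
    exact (Nat.eq_of_mul_eq_mul_left Nat.card_pos h1).symm
  have hp2 : IsPGroup 2 Mb := IsPGroup.of_card hcard
  have hnt : Nontrivial Mb := by
    obtain ⟨x, hx, y, hy, hxy⟩ := exists_ne_comm h
    refine ⟨⟨⟨f x, x, hx, rfl⟩, 1, fun h1 => hxy ?_⟩⟩
    exact h.com x ((hker x).1 (congrArg Subtype.val h1)) y hy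
  have : Fact (Nat.Prime 2) := ⟨Nat.prime_two⟩
  have hZ := hp2.center_nontrivial
  obtain ⟨⟨⟨b, hbM⟩, hb⟩, hb1⟩ := exists_ne (1 : center Mb)
  obtain ⟨c, hc, rfl⟩ := hbM
  have : (Mb : Subgroup (H ⧸ A)).Normal := hM.map f (QuotientGroup.mk'_surjective A)
  rcases h.chief (M ⊓ (centralizer (Mb : Set (H ⧸ A))).comap f) inferInstance (fun a ha => ⟨h.lt.le ha, by
    change f a ∈ centralizer (Mb : Set (H ⧸ A))
    rw [(hker a).2 ha]
    exact one_mem _⟩) inf_le_left with h1 | h1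
  · exfalso
    have h2 : c ∈ M ⊓ (centralizer (Mb : Set (H ⧸ A))).comap f := by
      refine ⟨hc, mem_comap.2 (mem_centralizer_iff.2 fun x hx => ?_)⟩
      exact congrArg Subtype.val (mem_center_iff.1 hb ⟨x, hx⟩)
    rw [h1, ← hker] at h2
    exact hb1 (Subtype.ext (Subtype.ext h2))
  · intro x hx y hy
    rw [← h1] at hx
    have h2 := mem_centralizer_iff.1 (mem_comap.1 hx.2) (f y) ⟨y, hy, rfl⟩
    rw [← hker, map_mul, map_mul, map_mul, map_inv, map_inv, ← h2, mul_inv_cancel_right, mul_inv_cancel]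

/-- `M / A` has exponent 2 -/
theorem sq_mem (h : BSit p e A M C ρ) {k : ℕ} (hk : Nat.card M = 2 ^ k * Nat.card A) : ∀ x ∈ M, x * x ∈ A := by
  have hA := h.nA
  have hcm := comm_mem h hk
  have key : ∀ x ∈ M, ∀ y ∈ M, x * y * (x * y) ∈ A ↔ (x * x) * (y * y) ∈ A := by
    intro x hx y hy
    have e1 : x * y * (x * y) = x * (y * x * y⁻¹ * x⁻¹) * x⁻¹ * ((x * x) * (y * y)) := by group
    have h1 := hA.conj_mem _ (hcm y hy x hx) x
    rw [e1]
    exact A.mul_mem_cancel_left h1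
  let T : Subgroup H :=
    { carrier := {x | x ∈ M ∧ x * x ∈ A}
      one_mem' := ⟨M.one_mem, by rw [mul_one]; exact A.one_mem⟩
      mul_mem' := by
        rintro a b ⟨ha, ha'⟩ ⟨hb, hb'⟩
        exact ⟨M.mul_mem ha hb, (key a ha b hb).2 (A.mul_mem ha' hb')⟩
      inv_mem' := by
        rintro a ⟨ha, ha'⟩
        refine ⟨M.inv_mem ha, ?_⟩
        rw [← mul_inv_rev]
        exact A.inv_mem ha' }
  have hTn : T.Normal := ⟨fun x hx g => ⟨h.nM.conj_mem x hx.1 g, by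
    have e1 : g * x * g⁻¹ * (g * x * g⁻¹) = g * (x * x) * g⁻¹ := by group
    rw [e1]
    exact hA.conj_mem _ hx.2 g⟩⟩
  rcases h.chief T hTn (fun a ha => ⟨h.lt.le ha, A.mul_mem ha ha⟩) (fun x hx => hx.1) with h1 | h1
  · exfalso
    -- an element of 2-power order outside of `A`
    obtain ⟨x, hx, y, hy, hxy⟩ := exists_ne_comm h
    have hxA : x ∉ A := fun hxA => hxy (h.com x hxA y hy)
    have h2 : ∃ n : ℕ, x ^ 2 ^ n ∈ A := by
      refine ⟨k, ?_⟩
      have h3 : (A.subgroupOf M).index = 2 ^ k := by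
        have h4 := (A.subgroupOf M).card_mul_index
        rw [Nat.card_congr (subgroupOfEquivOfLe h.lt.le).toEquiv, hk, mul_comm] at h4
        exact Nat.eq_of_mul_eq_mul_right Nat.card_pos h4
      have h5 := Subgroup.pow_index_mem (A.subgroupOf M) (⟨x, hx⟩ : M)
      rw [h3] at h5
      exact h5
    classical
    have h3 := Nat.find_spec h2
    rcases Nat.eq_zero_or_pos (Nat.find h2) with h4 | h4
    · rw [h4, pow_zero, pow_one] at h3
      exact hxA h3
    · obtain ⟨n, hn⟩ := Nat.exists_eq_succ_of_ne_zero h4.ne'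
      have h5 := Nat.find_min h2 (m := n) (by omega)
      rw [hn, Nat.succ_eq_add_one, pow_succ, pow_mul, pow_two] at h3
      have h6 : x ^ 2 ^ n ∈ T := ⟨M.pow_mem hx _, h3⟩
      rw [h1] at h6
      exact h5 h6
  · intro x hx
    rw [← h1] at hx
    exact hx.2

/-- the commutators with an element of `C` acting trivially on `M / A` are `1` or the involution -/
theorem comm_sq (h : BSit p e A M C ρ) (hsq : ∀ x ∈ M, x * x ∈ A) {d : H} (hd : d ∈ C)
    (hdM : ∀ m ∈ M, d * m * d⁻¹ * m⁻¹ ∈ A) {m : H} (hm : m ∈ M) :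
    (d * m * d⁻¹ * m⁻¹) * (d * m * d⁻¹ * m⁻¹) = 1 := by
  set c := d * m * d⁻¹ * m⁻¹ with hc
  have hcA : c ∈ A := hdM m hm
  have h1 : d * m * d⁻¹ = c * m := by rw [hc, inv_mul_cancel_right]
  have h2 : d * (m * m) * d⁻¹ = m * m := by
    rw [← zc_comm h (le_zc h (hsq m hm)) hd, mul_inv_cancel_right]
  have h3 : d * (m * m) * d⁻¹ = c * m * (c * m) := by
    rw [← h1]; group
  have h4 : c * m * (c * m) = c * c * (m * m) := by
    have h5 := h.com c hcA m hm
    calc c * m * (c * m) = c * (m * c) * m := by group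
      _ = c * (c * m) * m := by rw [h5]
      _ = _ := by group
  rw [h4, h2] at h3
  exact (mul_eq_right.1 h3.symm)

/-- the number of homomorphisms to `ℚ` -/
theorem finite_hom (G : Type*) [Group G] [Finite G] : Finite (G →* ℚ) ∧ Nat.card (G →* ℚ) ≤ Nat.card G := by
  have : Fintype G := Fintype.ofFinite G
  have h1 := linearIndependent_monoidHom G ℚ
  have h2 : Finite (G →* ℚ) := h1.finite
  have : Fintype (G →* ℚ) := Fintype.ofFinite _
  refine ⟨h2, ?_⟩
  have h3 := h1.fintype_card_le_finrank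
  rwa [Module.finrank_fintype_fun_eq_card, ← Nat.card_eq_fintype_card, ← Nat.card_eq_fintype_card] at h3

/-- **the elements of `C` acting trivially on `M / A` lie in `M Zc`** -/
theorem exists_mul (h : BSit p e A M C ρ) (hsq : ∀ x ∈ M, x * x ∈ A) (hcm : ∀ x ∈ M, ∀ y ∈ M, x * y * x⁻¹ * y⁻¹ ∈ A)
    {d : H} (hd : d ∈ C) (hdM : ∀ m ∈ M, d * m * d⁻¹ * m⁻¹ ∈ A) : ∃ m ∈ M, m⁻¹ * d ∈ Zc M C := by
  classical
  have hA := h.nA
  have hAn : (A.subgroupOf M).Normal := hA.subgroupOf M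
  -- the elements acting trivially
  let D : Set H := {d | d ∈ C ∧ ∀ m ∈ M, d * m * d⁻¹ * m⁻¹ ∈ A}
  have hMD : ∀ m ∈ M, m ∈ D := fun m hm => ⟨h.le hm, fun m' hm' => hcm m hm m' hm'⟩
  -- multiplicativity of the commutator
  have hmul : ∀ d ∈ D, ∀ m ∈ M, ∀ m' ∈ M,
      d * (m * m') * d⁻¹ * (m * m')⁻¹ = (d * m * d⁻¹ * m⁻¹) * (d * m' * d⁻¹ * m'⁻¹) := by
    intro d hd m hm m' hm'
    have h1 := h.com _ (hd.2 m' hm') m hm
    calc d * (m * m') * d⁻¹ * (m * m')⁻¹ = (d * m * d⁻¹) * (d * m' * d⁻¹ * m'⁻¹) * m⁻¹ := by group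
      _ = (d * m * d⁻¹ * m⁻¹) * (m * (d * m' * d⁻¹ * m'⁻¹)) * m⁻¹ := by group
      _ = (d * m * d⁻¹ * m⁻¹) * ((d * m' * d⁻¹ * m'⁻¹) * m) * m⁻¹ := by rw [h1]
      _ = _ := by group
  -- the character
  have hval : ∀ d ∈ D, ∀ m ∈ M, ∀ d' ∈ D, ∀ m' ∈ M, d * m * d⁻¹ * m⁻¹ ≠ 1 → d' * m' * d'⁻¹ * m'⁻¹ ≠ 1 →
      d * m * d⁻¹ * m⁻¹ = d' * m' * d'⁻¹ * m'⁻¹ := fun d hd m hm d' hd' m' hm' h1 h2 =>
    zc_inv h (le_zc h (hd.2 m hm)) (le_zc h (hd'.2 m' hm')) (comm_sq h hsq hd.1 hd.2 hm) (comm_sq h hsq hd'.1 hd'.2 hm')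
      h1 h2
  let χ0 : D → (M →* ℚ) := fun d =>
    { toFun := fun m => if (d : H) * m * (d : H)⁻¹ * (m : H)⁻¹ = 1 then 1 else -1
      map_one' := by simp
      map_mul' := by
        intro m m'
        have h1 := hmul d d.2 m m.2 m' m'.2
        by_cases h2 : (d : H) * m * (d : H)⁻¹ * (m : H)⁻¹ = 1
        · rw [if_pos h2, one_mul]
          rw [h2, one_mul] at h1
          change (if (d : H) * ((m : H) * m') * (d : H)⁻¹ * ((m : H) * m')⁻¹ = 1 then (1 : ℚ) else -1) = _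
          rw [h1]
        · by_cases h3 : (d : H) * m' * (d : H)⁻¹ * (m' : H)⁻¹ = 1
          · rw [if_pos h3, mul_one]
            rw [h3, mul_one] at h1
            change (if (d : H) * ((m : H) * m') * (d : H)⁻¹ * ((m : H) * m')⁻¹ = 1 then (1 : ℚ) else -1) = _
            rw [h1]
          · rw [if_neg h2, if_neg h3, neg_mul_neg, one_mul]
            rw [← hval d d.2 m m.2 d d.2 m' m'.2 h2 h3, comm_sq h hsq d.2.1 d.2.2 m.2] at h1
            exact if_pos h1 }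
  have hχA : ∀ d : D, ∀ a : M, (a : H) ∈ A → χ0 d a = 1 := by
    intro d a ha
    refine if_pos ?_
    rw [← zc_comm h (le_zc h ha) d.2.1, mul_inv_cancel_right, mul_inv_cancel]
  let χ : D → ((M ⧸ A.subgroupOf M) →* ℚ) := fun d => QuotientGroup.lift _ (χ0 d) fun a ha => hχA d a ha
  have hχ : ∀ d d' : D, χ d = χ d' → (d : H)⁻¹ * d' ∈ Zc M C := by
    intro d d' hdd
    refine mem_zc.2 ⟨C.mul_mem (C.inv_mem d.2.1) d'.2.1, fun m hm => ?_⟩
    have h1 : χ0 d ⟨m, hm⟩ = χ0 d' ⟨m, hm⟩ := DFunLike.congr_fun hdd (QuotientGroup.mk (⟨m, hm⟩ : M))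
    have h2 : (d : H) * m * (d : H)⁻¹ * m⁻¹ = (d' : H) * m * (d' : H)⁻¹ * m⁻¹ := by
      have h1' : (if (d : H) * m * (d : H)⁻¹ * m⁻¹ = 1 then (1 : ℚ) else -1) =
        (if (d' : H) * m * (d' : H)⁻¹ * m⁻¹ = 1 then (1 : ℚ) else -1) := h1
      by_cases h3 : (d : H) * m * (d : H)⁻¹ * m⁻¹ = 1
      · by_cases h4 : (d' : H) * m * (d' : H)⁻¹ * m⁻¹ = 1
        · rw [h3, h4]
        · rw [if_pos h3, if_neg h4] at h1'
          norm_num at h1'
      · by_cases h4 : (d' : H) * m * (d' : H)⁻¹ * m⁻¹ = 1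
        · rw [if_neg h3, if_pos h4] at h1'
          norm_num at h1'
        · exact hval d d.2 m hm d' d'.2 m hm h3 h4
    have h3 := mul_right_cancel h2
    calc m * ((d : H)⁻¹ * d') = (d : H)⁻¹ * ((d : H) * m * (d : H)⁻¹) * d' := by group
      _ = (d : H)⁻¹ * ((d' : H) * m * (d' : H)⁻¹) * d' := by rw [h3]
      _ = _ := by group
  -- `M / A → characters` is injective
  have hex : ∀ q : M ⧸ A.subgroupOf M, ∃ m : M, QuotientGroup.mk m = q := QuotientGroup.mk_surjective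
  choose rp hrp using hex
  let F : M ⧸ A.subgroupOf M → ((M ⧸ A.subgroupOf M) →* ℚ) := fun q => χ ⟨rp q, hMD _ (rp q).2⟩
  have hF : Function.Injective F := by
    intro q q' hqq
    have h1 := hχ _ _ hqq
    have h2 : ((rp q : H))⁻¹ * rp q' ∈ A := mem_of_zc h (M.mul_mem (M.inv_mem (rp q).2) (rp q').2) h1
    rw [← hrp q, ← hrp q', QuotientGroup.eq]
    exact h2
  obtain ⟨hf1, hf2⟩ := finite_hom (M ⧸ A.subgroupOf M)
  have hFb : Function.Bijective F := by
    have : Fintype (M ⧸ A.subgroupOf M) := Fintype.ofFinite _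
    have : Fintype ((M ⧸ A.subgroupOf M) →* ℚ) := Fintype.ofFinite _
    rw [Nat.card_eq_fintype_card, Nat.card_eq_fintype_card] at hf2
    exact (Fintype.bijective_iff_injective_and_card F).2 ⟨hF, le_antisymm (Fintype.card_le_of_injective F hF) hf2⟩
  obtain ⟨q, hq⟩ := hFb.2 (χ ⟨d, hd, hdM⟩)
  exact ⟨rp q, (rp q).2, hχ _ _ hq⟩

end Base

end Cfsg.Agent.H173.KGL
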