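import Cfsg.Agent.H475.KGL.Rows

/-!
# Commuting pairs in the fibres of a homomorphism (helper173, project KGL)
-/

set_option autoImplicit false
set_option linter.unusedSectionVars false

namespace Cfsg.Agent.H173.KGL

open Subgroup Cfsg.Agent.H475.KGL

section Count

variable {N X : Type*} [Group N] [Fintype N] [Group X] [Fintype X] [DecidableEq X] [DecidableEq N]

/-- the number of commuting pairs over `(a, b)` -/
def cc (π : N →* X) (a b : X) : ℕ :=
  (Finset.univ.filter fun z : N × N => π z.1 = a ∧ π z.2 = b ∧ z.1 * z.2 = z.2 * z.1).card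

theorem cc_comm (π : N →* X) (a b : X) : cc π a b = cc π b a := by
  unfold cc
  refine Finset.card_bij (fun z _ => (z.2, z.1)) ?_ ?_ ?_
  · intro z hz
    simp only [Finset.mem_filter, Finset.mem_univ, true_and] at hz ⊢
    exact ⟨hz.2.1, hz.1, hz.2.2.symm⟩
  · intro z _ z' _ h
    exact Prod.ext (congrArg Prod.snd h) (congrArg Prod.fst h)
  · intro z hz
    simp only [Finset.mem_filter, Finset.mem_univ, true_and] at hz
    refine ⟨(z.2, z.1), ?_, rfl⟩
    simp only [Finset.mem_filter, Finset.mem_univ, true_and]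
    exact ⟨hz.2.1, hz.1, hz.2.2.symm⟩

theorem cc_le (π : N →* X) (a b : X) : cc π a b ≤ cc π a 1 := by
  classical
  unfold cc
  -- a member of the fibre over `b` commuting with `x`
  let F : N → N := fun x => if h : ∃ y, π y = b ∧ x * y = y * x then h.choose else 1
  have hF : ∀ x y, π y = b → x * y = y * x → π (F x) = b ∧ x * F x = F x * x := by
    intro x y h1 h2
    have h : ∃ y, π y = b ∧ x * y = y * x := ⟨y, h1, h2⟩
    have : F x = h.choose := dif_pos h
    rw [this]
    exact h.choose_spec
  refine Finset.card_le_card_of_injOn (fun z => (z.1, (F z.1)⁻¹ * z.2)) ?_ ?_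
  · intro z hz
    simp only [Finset.coe_filter, Finset.mem_univ, true_and, Set.mem_ofPred_eq] at hz ⊢
    obtain ⟨h1, h2, h3⟩ := hz
    obtain ⟨h4, h5⟩ := hF _ _ h2 h3
    refine ⟨h1, by rw [map_mul, map_inv, h4, h2, inv_mul_cancel], ?_⟩
    have h6 : Commute z.1 (F z.1)⁻¹ := (show Commute z.1 (F z.1) from h5).inv_right
    exact (h6.mul_right (show Commute z.1 z.2 from h3)).eq
  · intro z _ z' _ h
    obtain ⟨h1, h2⟩ : z.1 = z'.1 ∧ (F z.1)⁻¹ * z.2 = (F z'.1)⁻¹ * z'.2 := Prod.ext_iff.1 h
    rw [h1] at h2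
    exact Prod.ext h1 (mul_left_cancel h2)

theorem cc_eq_zero (π : N →* X) {a b : X} (h : a * b ≠ b * a) : cc π a b = 0 := by
  unfold cc
  rw [Finset.card_eq_zero, Finset.filter_eq_empty_iff]
  rintro z - ⟨rfl, rfl, h3⟩
  apply h
  rw [← map_mul, h3, map_mul]

theorem sum_cc (π : N →* X) : ∑ z : X × X, cc π z.1 z.2 = kc N * Nat.card N := by
  classical
  rw [← card_comm_eq_card_conjClasses_mul_card, Nat.card_eq_fintype_card, Fintype.card_subtype]
  have h := Finset.card_eq_sum_card_fiberwise (s := Finset.univ.filter fun z : N × N => Commute z.1 z.2)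
    (t := (Finset.univ : Finset (X × X))) (f := fun z : N × N => (π z.1, π z.2)) (fun z _ => Finset.mem_univ _)
  rw [h]
  refine Finset.sum_congr rfl fun z _ => ?_
  unfold cc
  congr 1
  ext w
  simp only [Finset.mem_filter, Finset.mem_univ, true_and, Prod.ext_iff]
  exact ⟨fun h => ⟨h.2.2, h.1, h.2.1⟩, fun h => ⟨h.2.1, h.2.2, h.1⟩⟩

/-- the elements over `a` commuting with `n` -/
theorem fib_le (π : N →* X) (a : X) (n : N) :
    (Finset.univ.filter fun x : N => π x = a ∧ x * n = n * x).card ≤
      (Finset.univ.filter fun x : N => π x = 1 ∧ x * n = n * x).card := by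
  classical
  by_cases h : ∃ x, π x = a ∧ x * n = n * x
  · obtain ⟨x0, h1, h2⟩ := h
    refine Finset.card_le_card_of_injOn (fun x => x0⁻¹ * x) ?_ ?_
    · intro x hx
      simp only [Finset.coe_filter, Finset.mem_univ, true_and, Set.mem_ofPred_eq] at hx ⊢
      refine ⟨by rw [map_mul, map_inv, h1, hx.1, inv_mul_cancel], ?_⟩
      have h3 : Commute x0⁻¹ n := (show Commute x0 n from h2).inv_left
      exact (h3.mul_left (show Commute x n from hx.2)).eq
    · intro x _ x' _ h
      exact mul_left_cancel h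
  · rw [Finset.card_eq_zero.2 (Finset.filter_eq_empty_iff.2 fun x _ hx => h ⟨x, hx⟩)]
    exact Nat.zero_le _

/-- elements of the kernel commuting with at most half of it -/
theorem ker_le (π : N →* X) {n : N} (hn : ∃ l, π l = 1 ∧ l * n ≠ n * l) :
    2 * (Finset.univ.filter fun x : N => π x = 1 ∧ x * n = n * x).card ≤
      (Finset.univ.filter fun x : N => π x = 1).card := by
  classical
  obtain ⟨l, hl, hln⟩ := hn
  rw [two_mul]
  set S := Finset.univ.filter fun x : N => π x = 1 ∧ x * n = n * x with hS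
  have h1 : (S.image fun x => l * x).card = S.card := Finset.card_image_of_injective _ (mul_right_injective l)
  have h2 : Disjoint S (S.image fun x => l * x) := by
    rw [Finset.disjoint_left]
    intro x hx hx'
    obtain ⟨y, hy, rfl⟩ := Finset.mem_image.1 hx'
    simp only [hS, Finset.mem_filter, Finset.mem_univ, true_and] at hx hy
    apply hln
    have h3 : Commute (l * y) n := hx.2
    have h4 : Commute y⁻¹ n := (show Commute y n from hy.2).inv_left
    have h5 := h3.mul_left h4
    rw [mul_inv_cancel_right] at h5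
    exact h5.eq
  calc S.card + S.card = (S ∪ S.image fun x => l * x).card := by rw [Finset.card_union_of_disjoint h2, h1]
    _ ≤ _ := Finset.card_le_card (by
      intro x hx
      rcases Finset.mem_union.1 hx with h | h
      · simp only [hS, Finset.mem_filter, Finset.mem_univ, true_and] at h ⊢
        exact h.1
      · obtain ⟨y, hy, rfl⟩ := Finset.mem_image.1 h
        simp only [hS, Finset.mem_filter, Finset.mem_univ, true_and] at hy ⊢
        rw [map_mul, hl, hy.1, one_mul])

/-- the number of commuting pairs over `(a, 1)` -/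
theorem two_cc_le (π : N →* X) (Y : Subgroup N)
    (c1 : ∀ n, π n = 1 → n ∉ Y → ∃ l, π l = 1 ∧ l * n ≠ n * l) (a : X) (E : Finset N)
    (hE' : ∀ n x, π n = 1 → π x = a → x * n = n * x → n ∈ E) :
    2 * cc π a 1 ≤ Nat.card π.ker * (Nat.card Y + E.card) := by
  classical
  set lc := (Finset.univ.filter fun x : N => π x = 1).card with hlc
  have hlc' : Nat.card π.ker = lc := by
    rw [hlc, Nat.card_eq_fintype_card, Fintype.card_subtype]
    congr 1
    ext x
    simp only [Finset.mem_filter, Finset.mem_univ, true_and, MonoidHom.mem_ker]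
  have hfib : ∀ n : N, (Finset.univ.filter fun x : N => π x = a ∧ x * n = n * x).card ≤ lc := by
    intro n
    refine (fib_le π a n).trans (Finset.card_le_card fun x hx => ?_)
    simp only [Finset.mem_filter, Finset.mem_univ, true_and] at hx ⊢
    exact hx.1
  -- count by the second component
  have h1 : cc π a 1 = ∑ n ∈ E.filter fun n => π n = 1, (Finset.univ.filter fun x : N => π x = a ∧ x * n = n * x).card := by
    unfold cc
    rw [Finset.card_eq_sum_card_fiberwise (t := E.filter fun n => π n = 1) (f := fun z : N × N => z.2)]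
    · refine Finset.sum_congr rfl fun n hn => ?_
      rw [Finset.mem_filter] at hn
      refine Finset.card_bij (fun z _ => z.1) ?_ ?_ ?_
      · intro z hz
        simp only [Finset.mem_filter, Finset.mem_univ, true_and] at hz ⊢
        obtain ⟨⟨h1, h2, h3⟩, rfl⟩ := hz
        exact ⟨h1, h3⟩
      · intro z hz z' hz' h
        simp only [Finset.mem_filter, Finset.mem_univ, true_and] at hz hz'
        exact Prod.ext h (hz.2.trans hz'.2.symm)
      · intro x hx
        simp only [Finset.mem_filter, Finset.mem_univ, true_and] at hx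
        refine ⟨(x, n), ?_, rfl⟩
        simp only [Finset.mem_filter, Finset.mem_univ, true_and]
        exact ⟨⟨hx.1, hn.2, hx.2⟩, trivial⟩
    · intro z hz
      simp only [Finset.coe_filter, Finset.mem_univ, true_and, Set.mem_ofPred_eq] at hz ⊢
      exact ⟨hE' _ _ hz.2.1 hz.1 hz.2.2, hz.2.1⟩
  rw [h1, Finset.mul_sum, hlc']
  -- bound
  have h2 : ∀ n ∈ E.filter fun n => π n = 1, 2 * (Finset.univ.filter fun x : N => π x = a ∧ x * n = n * x).card ≤
      lc + if n ∈ Y then lc else 0 := by
    intro n hn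
    rw [Finset.mem_filter] at hn
    split
    · have := hfib n
      omega
    · rename_i hY
      have h3 := fib_le π a n
      have h4 := ker_le π (c1 n hn.2 hY)
      omega
  refine (Finset.sum_le_sum h2).trans ?_
  rw [Finset.sum_add_distrib, Finset.sum_const, smul_eq_mul, ← Finset.sum_filter, Finset.sum_const, smul_eq_mul]
  have h5 : ((E.filter fun n => π n = 1).filter fun n => n ∈ Y).card ≤ Nat.card Y := by
    rw [Nat.card_eq_fintype_card, Fintype.card_subtype]
    refine Finset.card_le_card fun n hn => ?_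
    simp only [Finset.mem_filter, Finset.mem_univ, true_and] at hn ⊢
    exact hn.2
  have h6 : (E.filter fun n => π n = 1).card ≤ E.card := Finset.card_filter_le _ _
  calc (E.filter fun n => π n = 1).card * lc + ((E.filter fun n => π n = 1).filter fun n => n ∈ Y).card * lc
      ≤ E.card * lc + Nat.card Y * lc := Nat.add_le_add (Nat.mul_le_mul_right _ h6) (Nat.mul_le_mul_right _ h5)
    _ = _ := by ring

/-- the number of commuting pairs outside of `P` -/
theorem pairs_le (P : Subgroup X) [DecidablePred fun x => x ∈ P] {r j : ℕ} (hr : Nat.card P = r) (hr0 : 0 < r) (hX : Nat.card X = r * j)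
    (hP : ∀ a ∈ P, a ≠ 1 → ∀ b, a * b = b * a → b ∈ P) :
    (Finset.univ.filter fun z : X × X => z.1 * z.2 = z.2 * z.1 ∧ ¬ (z.1 ∈ P ∧ z.2 ∈ P)).card ≤ r * (j ^ 2 - 1) := by
  classical
  have hPc : (Finset.univ.filter fun a : X => a ∈ P).card = r := by
    rw [← hr, Nat.card_eq_fintype_card, Fintype.card_subtype]
  have hXc : Fintype.card X = r * j := by rw [← Nat.card_eq_fintype_card, hX]
  have hPc' : (Finset.univ.filter fun a : X => a ∉ P).card = r * j - r := by
    have h1 := Finset.card_filter_add_card_filter_not (s := (Finset.univ : Finset X)) (fun a : X => a ∈ P)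
    rw [hPc, Finset.card_univ, hXc] at h1
    omega
  -- centralisers of the elements outside `P`
  have hC : ∀ a : X, a ∉ P → (Finset.univ.filter fun b : X => a * b = b * a).card ≤ j := by
    intro a ha
    have h1 : Disjoint (centralizer ({a} : Set X)) P := by
      rw [disjoint_iff_inf_le]
      rintro b ⟨hb1, hb2⟩
      rw [mem_bot]
      by_contra hb
      exact ha (hP b hb2 hb a (mem_centralizer_singleton_iff.1 hb1))
    have h2 : Nat.card (centralizer ({a} : Set X)) * Nat.card P ≤ Nat.card X := by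
      rw [← Nat.card_prod]
      refine Nat.card_le_card_of_injective (fun z : ↥(centralizer ({a} : Set X)) × ↥P => (z.1 : X) * z.2) ?_
      exact Subgroup.mul_injective_of_disjoint h1
    rw [hr, hX, mul_comm] at h2
    have h3 := Nat.le_of_mul_le_mul_left h2 hr0
    refine le_trans (le_of_eq ?_) h3
    rw [Nat.card_eq_fintype_card, Fintype.card_subtype]
    congr 1
    ext b
    simp only [Finset.mem_filter, Finset.mem_univ, true_and, mem_centralizer_singleton_iff]
    exact eq_comm
  have hj : 0 < j := by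
    rcases Nat.eq_zero_or_pos j with h | h
    · rw [h, mul_zero] at hX
      exact absurd hX Nat.card_pos.ne'
    · exact h
  have h1 : (Finset.univ.filter fun z : X × X => z.1 * z.2 = z.2 * z.1 ∧ ¬ (z.1 ∈ P ∧ z.2 ∈ P)).card ≤
      (Finset.univ.filter fun z : X × X => z.1 * z.2 = z.2 * z.1 ∧ z.1 ∉ P).card +
        (Finset.univ.filter fun a : X => a ∉ P).card := by
    have h2 : (Finset.univ.filter fun z : X × X => z.1 * z.2 = z.2 * z.1 ∧ ¬ (z.1 ∈ P ∧ z.2 ∈ P)) ⊆
        (Finset.univ.filter fun z : X × X => z.1 * z.2 = z.2 * z.1 ∧ z.1 ∉ P) ∪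
        (Finset.univ.filter fun a : X => a ∉ P).image fun b => ((1 : X), b) := by
      intro z hz
      simp only [Finset.mem_filter, Finset.mem_univ, true_and] at hz
      rw [Finset.mem_union]
      by_cases h3 : z.1 ∈ P
      · right
        have h4 : z.2 ∉ P := fun h => hz.2 ⟨h3, h⟩
        have h5 : z.1 = 1 := by
          by_contra h5
          exact h4 (hP z.1 h3 h5 z.2 hz.1)
        rw [Finset.mem_image]
        refine ⟨z.2, by simpa using h4, ?_⟩
        rw [← h5]
      · left
        simp only [Finset.mem_filter, Finset.mem_univ, true_and]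
        exact ⟨hz.1, h3⟩
    refine (Finset.card_le_card h2).trans ((Finset.card_union_le _ _).trans ?_)
    exact Nat.add_le_add_left Finset.card_image_le _
  have h2 : (Finset.univ.filter fun z : X × X => z.1 * z.2 = z.2 * z.1 ∧ z.1 ∉ P).card ≤ (r * j - r) * j := by
    rw [Finset.card_eq_sum_card_fiberwise (t := Finset.univ.filter fun a : X => a ∉ P) (f := fun z : X × X => z.1)]
    · rw [← hPc', ← smul_eq_mul, ← Finset.sum_const]
      refine Finset.sum_le_sum fun a ha => ?_
      rw [Finset.mem_filter] at ha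
      refine le_trans (Finset.card_le_card_of_injOn (fun z => z.2) ?_ ?_) (hC a ha.2)
      · intro z hz
        simp only [Finset.coe_filter, Finset.mem_filter, Finset.mem_univ, true_and, Set.mem_ofPred_eq] at hz ⊢
        rw [← hz.2]
        exact hz.1.1
      · intro z hz z' hz' h
        simp only [Finset.coe_filter, Finset.mem_filter, Finset.mem_univ, true_and, Set.mem_ofPred_eq] at hz hz'
        exact Prod.ext (hz.2.trans hz'.2.symm) h
    · intro z hz
      simp only [Finset.coe_filter, Finset.mem_univ, true_and, Set.mem_ofPred_eq] at hz ⊢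
      exact hz.2
  rw [hPc'] at h1
  refine h1.trans ((Nat.add_le_add_right h2 _).trans (le_of_eq ?_))
  obtain ⟨k, rfl⟩ : ∃ k, j = k + 1 := ⟨j - 1, by omega⟩
  have e1 : r * (k + 1) - r = r * k := by rw [mul_add, mul_one, Nat.add_sub_cancel]
  have e2 : (k + 1) ^ 2 - 1 = k * (k + 2) := by
    have : (k + 1) ^ 2 = k * (k + 2) + 1 := by ring
    rw [this, Nat.add_sub_cancel]
  rw [e1, e2]
  ring

end Count

/-- **The bound for the class number.** -/
theorem count {N X : Type*} [Group N] [Finite N] [Group X] [Finite X] {π : N →* X} (hπ : Function.Surjective π)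
    (P : Subgroup X) {r j v u : ℕ} (hr : Nat.card P = r) (hX : Nat.card X = r * j)
    (hP : ∀ a ∈ P, a ≠ 1 → ∀ b, a * b = b * a → b ∈ P)
    (Y : Subgroup N) (hYc : ∀ y ∈ Y, ∀ x, y * x = x * y)
    (hL : Nat.card π.ker = v * Nat.card Y)
    (c0 : ∀ l n, π l = 1 → π n = 1 → l * n * l⁻¹ * n⁻¹ ∈ Y)
    (c1 : ∀ n, π n = 1 → n ∉ Y → ∃ l, π l = 1 ∧ l * n ≠ n * l)
    (c2 : ∀ x, π x ∈ P → π x ≠ 1 → ∀ n, π n = 1 → x * n = n * x → n ∈ Y)
    (c3 : ∀ x, π x ∉ P → Nat.card {n : N // π n = 1 ∧ x * n * x⁻¹ * n⁻¹ ∈ Y} ≤ Nat.card Y * u) :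
    2 * kc N * (r * j) ≤ Nat.card Y * (v + 1 + 2 * (r ^ 2 - 1) + (1 + u) * (r * (j ^ 2 - 1))) := by
  classical
  have : Fintype N := Fintype.ofFinite N
  have : Fintype X := Fintype.ofFinite X
  have hr0 : 0 < r := hr ▸ Nat.card_pos
  set L := Nat.card π.ker with hLdef
  set y := Nat.card Y with hy
  have hL0 : 0 < L := Nat.card_pos
  -- the bounds for the fibres
  have k1 : 2 * cc π 1 1 ≤ L * (y * (v + 1)) := by
    refine (two_cc_le π Y c1 1 (Finset.univ.filter fun n => π n = 1) ?_).trans ?_
    · intro n x hn _ _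
      simpa using hn
    · have h1 : (Finset.univ.filter fun n => π n = 1).card = L := by
        rw [hLdef, Nat.card_eq_fintype_card, Fintype.card_subtype]
        congr 1
        ext x
        simp only [Finset.mem_filter, Finset.mem_univ, true_and, MonoidHom.mem_ker]
      rw [h1, ← hLdef, ← hy]
      apply le_of_eq
      rw [hL]
      ring
  have k2 : ∀ a ∈ P, a ≠ 1 → 2 * cc π a 1 ≤ L * (y * 2) := by
    intro a ha ha1
    refine (two_cc_le π Y c1 a (Finset.univ.filter fun n => n ∈ Y) ?_).trans ?_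
    · rintro n x hn rfl hxn
      simpa using c2 x ha ha1 n hn hxn
    · have h1 : (Finset.univ.filter fun n => n ∈ Y).card = y := by
        rw [hy, Nat.card_eq_fintype_card, Fintype.card_subtype]
      rw [h1, ← hLdef, ← hy]
      apply le_of_eq
      ring
  have k3 : ∀ a, a ∉ P → 2 * cc π a 1 ≤ L * (y * (1 + u)) := by
    intro a ha
    obtain ⟨x1, rfl⟩ := hπ a
    refine (two_cc_le π Y c1 _ (Finset.univ.filter fun n => π n = 1 ∧ x1 * n * x1⁻¹ * n⁻¹ ∈ Y) ?_).trans ?_
    · intro n x hn hx hxn
      simp only [Finset.mem_filter, Finset.mem_univ, true_and]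
      refine ⟨hn, ?_⟩
      -- `x = x1 * l`
      have hl : π (x1⁻¹ * x) = 1 := by rw [map_mul, map_inv, hx, inv_mul_cancel]
      have h1 := c0 _ _ hl hn
      set l := x1⁻¹ * x with hl'
      set c := l * n * l⁻¹ * n⁻¹ with hc
      have hxl : x = x1 * l := by rw [hl', mul_inv_cancel_left]
      have h2 : l * n * l⁻¹ = c * n := by rw [hc, inv_mul_cancel_right]
      have h3 : x * n * x⁻¹ = n := by rw [hxn, mul_inv_cancel_right]
      have h4 : x1 * (c * n) * x1⁻¹ = n := by
        rw [← h2]
        calc x1 * (l * n * l⁻¹) * x1⁻¹ = (x1 * l) * n * (x1 * l)⁻¹ := by group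
          _ = n := by rw [← hxl, h3]
      have h5 : x1 * n * x1⁻¹ = c⁻¹ * n := by
        have h6 : x1 * (c * n) * x1⁻¹ = c * (x1 * n * x1⁻¹) := by
          have h7 := hYc c h1 x1
          calc x1 * (c * n) * x1⁻¹ = (x1 * c) * n * x1⁻¹ := by group
            _ = (c * x1) * n * x1⁻¹ := by rw [h7]
            _ = _ := by group
        rw [h6] at h4
        rw [eq_inv_mul_iff_mul_eq]
        exact h4
      rw [h5, mul_inv_cancel_right]
      exact Y.inv_mem h1
    · have h1 : (Finset.univ.filter fun n => π n = 1 ∧ x1 * n * x1⁻¹ * n⁻¹ ∈ Y).card ≤ y * u := by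
        have h2 := c3 x1 ha
        rwa [Nat.card_eq_fintype_card, Fintype.card_subtype] at h2
      rw [← hLdef, ← hy]
      calc L * (y + (Finset.univ.filter fun n => π n = 1 ∧ x1 * n * x1⁻¹ * n⁻¹ ∈ Y).card) ≤ L * (y + y * u) :=
            Nat.mul_le_mul_left _ (Nat.add_le_add_left h1 _)
        _ = _ := by ring
  -- the bound for all pairs
  let t : X × X → ℕ := fun z => if z = (1, 1) then v + 1 else
    if z.1 ∈ P ∧ z.2 ∈ P then 2 else if z.1 * z.2 = z.2 * z.1 then 1 + u else 0
  have kt : ∀ z : X × X, 2 * cc π z.1 z.2 ≤ L * y * t z := by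
    rintro ⟨a, b⟩
    have hswap : ∀ a b, cc π a b ≤ cc π b 1 := fun a b => (cc_comm π a b).le.trans (cc_le π b a)
    by_cases h1 : (a, b) = (1, 1)
    · have : t (a, b) = v + 1 := if_pos h1
      rw [this]
      obtain ⟨rfl, rfl⟩ := Prod.ext_iff.1 h1
      rw [mul_assoc]
      exact k1
    by_cases h2 : a ∈ P ∧ b ∈ P
    · have : t (a, b) = 2 := by
        change (if (a, b) = (1, 1) then v + 1 else _) = 2
        rw [if_neg h1]
        exact if_pos h2
      rw [this, mul_assoc]
      by_cases ha : a = 1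
      · have hb : b ≠ 1 := fun hb => h1 (by rw [ha, hb])
        exact (Nat.mul_le_mul_left 2 (hswap a b)).trans (k2 b h2.2 hb)
      · exact (Nat.mul_le_mul_left 2 (cc_le π a b)).trans (k2 a h2.1 ha)
    by_cases h3 : a * b = b * a
    · have : t (a, b) = 1 + u := by
        change (if (a, b) = (1, 1) then v + 1 else _) = 1 + u
        rw [if_neg h1]
        change (if a ∈ P ∧ b ∈ P then 2 else _) = 1 + u
        rw [if_neg h2]
        exact if_pos h3
      rw [this, mul_assoc]
      by_cases ha : a ∈ P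
      · have hb : b ∉ P := fun hb => h2 ⟨ha, hb⟩
        exact (Nat.mul_le_mul_left 2 (hswap a b)).trans (k3 b hb)
      · exact (Nat.mul_le_mul_left 2 (cc_le π a b)).trans (k3 a ha)
    · have : cc π a b = 0 := cc_eq_zero π h3
      change 2 * cc π a b ≤ _
      rw [this]
      exact Nat.zero_le _
  have hsum : 2 * (kc N * Nat.card N) ≤ L * y * ∑ z : X × X, t z := by
    rw [← sum_cc π, Finset.mul_sum, Finset.mul_sum]
    exact Finset.sum_le_sum fun z _ => kt z
  -- the sum of `t`
  have ht : ∑ z : X × X, t z ≤ v + 1 + 2 * (r ^ 2 - 1) + (1 + u) * (r * (j ^ 2 - 1)) := by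
    have h1 : ∀ z : X × X, t z ≤ (if z = (1, 1) then v + 1 else 0) +
        (if z ≠ (1, 1) ∧ z.1 ∈ P ∧ z.2 ∈ P then 2 else 0) +
        (if z.1 * z.2 = z.2 * z.1 ∧ ¬ (z.1 ∈ P ∧ z.2 ∈ P) then 1 + u else 0) := by
      intro z
      change (if z = (1, 1) then v + 1 else if z.1 ∈ P ∧ z.2 ∈ P then 2 else if z.1 * z.2 = z.2 * z.1 then 1 + u
        else 0) ≤ _
      by_cases h1 : z = (1, 1)
      · rw [if_pos h1, if_pos h1, add_assoc]
        exact Nat.le_add_right _ _
      · rw [if_neg h1, if_neg h1, zero_add]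
        by_cases h2 : z.1 ∈ P ∧ z.2 ∈ P
        · rw [if_pos h2, if_pos ⟨h1, h2⟩]
          exact Nat.le_add_right _ _
        · rw [if_neg h2]
          by_cases h3 : z.1 * z.2 = z.2 * z.1
          · rw [if_pos h3, if_pos (⟨h3, h2⟩ : z.1 * z.2 = z.2 * z.1 ∧ ¬ (z.1 ∈ P ∧ z.2 ∈ P))]
            exact Nat.le_add_left _ _
          · rw [if_neg h3]
            exact Nat.zero_le _
    refine (Finset.sum_le_sum fun z _ => h1 z).trans ?_
    rw [Finset.sum_add_distrib, Finset.sum_add_distrib]
    have e1 : ∑ z : X × X, (if z = (1, 1) then v + 1 else 0) = v + 1 := by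
      rw [Finset.sum_ite_eq' Finset.univ ((1, 1) : X × X) (fun _ => v + 1), if_pos (Finset.mem_univ _)]
    have e2 : ∑ z : X × X, (if z ≠ (1, 1) ∧ z.1 ∈ P ∧ z.2 ∈ P then 2 else 0) ≤ 2 * (r ^ 2 - 1) := by
      rw [← Finset.sum_filter, Finset.sum_const, smul_eq_mul, mul_comm]
      apply Nat.mul_le_mul_left
      have hPc : (Finset.univ.filter fun a : X => a ∈ P).card = r := by
        rw [← hr, Nat.card_eq_fintype_card, Fintype.card_subtype]
      have h2 : (Finset.univ.filter fun z : X × X => z ≠ (1, 1) ∧ z.1 ∈ P ∧ z.2 ∈ P) ⊆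
          (((Finset.univ.filter fun a : X => a ∈ P) ×ˢ (Finset.univ.filter fun a : X => a ∈ P)).erase (1, 1)) := by
        intro z hz
        simp only [Finset.mem_filter, Finset.mem_univ, true_and, Finset.mem_erase, Finset.mem_product] at hz ⊢
        exact hz
      refine (Finset.card_le_card h2).trans ?_
      rw [Finset.card_erase_of_mem (by simp [P.one_mem]), Finset.card_product, hPc, pow_two]
    have e3 : ∑ z : X × X, (if z.1 * z.2 = z.2 * z.1 ∧ ¬ (z.1 ∈ P ∧ z.2 ∈ P) then 1 + u else 0) ≤
        (1 + u) * (r * (j ^ 2 - 1)) := by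
      rw [← Finset.sum_filter, Finset.sum_const, smul_eq_mul, mul_comm]
      exact Nat.mul_le_mul_left _ (pairs_le P hr hr0 hX hP)
    rw [e1]
    exact Nat.add_le_add (Nat.add_le_add_left e2 _) e3
  -- conclusion
  have hN : Nat.card N = L * (r * j) := by
    rw [hLdef, ← hX, ← π.ker.card_mul_index, Subgroup.index_ker, MonoidHom.range_eq_top.2 hπ, Subgroup.card_top]
  rw [hN] at hsum
  apply Nat.le_of_mul_le_mul_left _ hL0
  calc L * (2 * kc N * (r * j)) = 2 * (kc N * (L * (r * j))) := by ring
    _ ≤ L * y * ∑ z : X × X, t z := hsum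
    _ ≤ L * y * (v + 1 + 2 * (r ^ 2 - 1) + (1 + u) * (r * (j ^ 2 - 1))) := Nat.mul_le_mul_left _ ht
    _ = _ := by ring

end Cfsg.Agent.H173.KGL
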