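import Cfsg.Agent.H173.KGL.Act

/-!
# The bound for the class number in the basic situation (helper173, project KGL)
-/

set_option autoImplicit false
set_option linter.unusedSectionVars false

namespace Cfsg.Agent.H173.KGL

open Subgroup Cfsg.Agent.H475.KGL

universe u v

/-- the order of a preimage -/
theorem card_comap {G G' : Type*} [Group G] [Finite G] [Group G'] (f : G →* G') (U : Subgroup G') :
    Nat.card (U.comap f) = Nat.card f.ker * Nat.card ((U.comap f).map f) := by
  set g := f.comp (U.comap f).subtype with hg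
  have h1 : Nat.card (U.comap f) = Nat.card g.ker * Nat.card g.range := by
    rw [← g.ker.card_mul_index, Subgroup.index_ker]
  have h2 : g.range = (U.comap f).map f := by
    rw [hg, MonoidHom.range_comp, (U.comap f).range_subtype]
  have h3 : g.ker = f.ker.subgroupOf (U.comap f) := by
    ext x
    rfl
  have h4 : f.ker ≤ U.comap f := by
    intro x hx
    rw [mem_comap, MonoidHom.mem_ker.1 hx]
    exact U.one_mem
  rw [h1, h2, h3, Nat.card_congr (subgroupOfEquivOfLe h4).toEquiv]

theorem kc_le_card (G : Type*) [Group G] [Finite G] : kc G ≤ Nat.card G :=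
  Nat.card_le_card_of_surjective (ConjClasses.mk : G → ConjClasses G) (Quotient.mk_surjective)

namespace Frob

variable {V : Type*} [Group V] [Finite V] {r : ℕ} {P Q : Subgroup (MulAut V)}

/-- `|X : P| < r` -/
theorem card_le (F : Frob r P Q) {X : Subgroup (MulAut V)} (hXQ : X ≤ Q) : Nat.card X ≤ (r - 1) * r := by
  classical
  obtain ⟨c, hcP, hc1⟩ := F.exists_ne
  have hfin : Finite (MulAut V) := Finite.of_injective (fun x : MulAut V => (x : V → V)) fun x y h => by
    ext v
    exact congrFun h v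
  have : Finite {a : P // a ≠ 1} := inferInstance
  have key : ∀ x : X, (x : MulAut V) * c * (x : MulAut V)⁻¹ ∈ P := fun x => F.nor x (hXQ x.2) c hcP
  have key1 : ∀ x : X, (x : MulAut V) * c * (x : MulAut V)⁻¹ ≠ 1 := by
    intro x hx
    apply hc1
    rw [mul_inv_eq_one] at hx
    exact mul_eq_left.1 hx
  let f : X → {a : P // a ≠ 1} := fun x => ⟨⟨_, key x⟩, fun h => key1 x (congrArg Subtype.val h)⟩
  let rp : {a : P // a ≠ 1} → X := fun a => if h : ∃ x, f x = a then h.choose else 1
  have hrp : ∀ x, f (rp (f x)) = f x := by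
    intro x
    have h : ∃ y, f y = f x := ⟨x, rfl⟩
    have : rp (f x) = h.choose := dif_pos h
    rw [this]
    exact h.choose_spec
  have hdiff : ∀ x y : X, f x = f y → ((y : MulAut V)⁻¹ * x : MulAut V) ∈ P := by
    intro x y hxy
    have h1 : (x : MulAut V) * c * (x : MulAut V)⁻¹ = y * c * (y : MulAut V)⁻¹ :=
      congrArg (fun a : {a : P // a ≠ 1} => ((a : P) : MulAut V)) hxy
    refine F.cen c hcP hc1 _ (Q.mul_mem (Q.inv_mem (hXQ y.2)) (hXQ x.2)) ?_
    calc c * ((y : MulAut V)⁻¹ * x) = (y : MulAut V)⁻¹ * (y * c * (y : MulAut V)⁻¹) * x := by group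
      _ = (y : MulAut V)⁻¹ * (x * c * (x : MulAut V)⁻¹) * x := by rw [h1]
      _ = _ := by group
  have h1 : Nat.card X ≤ Nat.card ({a : P // a ≠ 1} × P) := by
    refine Nat.card_le_card_of_injective (fun x => (f x, ⟨((rp (f x) : MulAut V))⁻¹ * x, hdiff _ _ (hrp x).symm⟩)) ?_
    intro x y hxy
    obtain ⟨h2, h3⟩ := Prod.ext_iff.1 hxy
    have h4 : ((rp (f x) : MulAut V))⁻¹ * x = ((rp (f y) : MulAut V))⁻¹ * y := congrArg Subtype.val h3
    have h5 : f x = f y := h2
    rw [h5] at h4
    exact Subtype.ext (mul_left_cancel h4)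
  refine h1.trans (le_of_eq ?_)
  have hPf : Finite P := inferInstance
  rw [Nat.card_prod, F.card]
  congr 1
  have : Fintype P := Fintype.ofFinite P
  rw [Nat.card_eq_fintype_card, Fintype.card_subtype_compl, Fintype.card_subtype_eq, ← Nat.card_eq_fintype_card,
    F.card]

/-- the fixed points of `a` -/
def fixp (a : MulAut V) : Subgroup V where
  carrier := {v | a v = v}
  one_mem' := map_one a
  mul_mem' := by
    intro x y hx hy
    change a (x * y) = x * y
    rw [map_mul, show a x = x from hx, show a y = y from hy]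
  inv_mem' := by
    intro x hx
    change a x⁻¹ = x⁻¹
    rw [map_inv, show a x = x from hx]

theorem fixp_le (F : Frob r P Q) {a : MulAut V} (ha : a ∈ Q) (haP : a ∉ P) :
    Nat.card (fixp a) * Nat.card (fixp a) ≤ Nat.card V := by
  obtain ⟨c, hcP, hc1⟩ := F.exists_ne
  set b := c * a * c⁻¹ with hb
  have h1 : Disjoint (fixp a) (fixp b) := by
    rw [disjoint_iff_inf_le]
    rintro v ⟨hv1, hv2⟩
    rw [mem_bot]
    have h2 : b * a⁻¹ ∈ P := by
      have h3 : b * a⁻¹ = c * (a * c⁻¹ * a⁻¹) := by rw [hb]; group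
      rw [h3]
      exact P.mul_mem hcP (F.nor a ha _ (P.inv_mem hcP))
    refine F.fpf _ h2 ?_ v ?_
    · intro h3
      apply haP
      refine F.cen c hcP hc1 a ha ?_
      rw [hb, mul_inv_eq_one, mul_inv_eq_iff_eq_mul] at h3
      exact h3
    · have h3 : a v = v := hv1
      have h4 : b v = v := hv2
      rw [MulAut.mul_apply]
      have h5 : a⁻¹ v = v := by
        rw [MulAut.inv_apply, MulEquiv.symm_apply_eq, h3]
      rw [h5, h4]
  have h2 : Nat.card (fixp a) = Nat.card (fixp b) := by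
    refine Nat.card_congr ⟨fun v => ⟨c v, ?_⟩, fun v => ⟨c⁻¹ v, ?_⟩, ?_, ?_⟩
    · change b (c v) = c v
      rw [hb, MulAut.mul_apply, MulAut.mul_apply, MulAut.inv_apply_self, show a v = v from v.2]
    · change a (c⁻¹ v) = c⁻¹ v
      have h3 : (c * a * c⁻¹) v = v := v.2
      rw [MulAut.mul_apply, MulAut.mul_apply] at h3
      rw [MulAut.inv_apply] at h3 ⊢
      rw [MulEquiv.eq_symm_apply]
      exact h3
    · intro v
      exact Subtype.ext (MulAut.inv_apply_self _ _ _)
    · intro v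
      exact Subtype.ext (MulAut.apply_inv_self _ _ _)
  calc Nat.card (fixp a) * Nat.card (fixp a) = Nat.card (fixp a × fixp b) := by rw [Nat.card_prod, ← h2]
    _ ≤ _ := Nat.card_le_card_of_injective _ (Subgroup.mul_injective_of_disjoint h1)

end Frob

section Base

variable {p e : ℕ} [Fact p.Prime] {H : Type u} [Group H] [Finite H] {A M C : Subgroup H} {W : Type v}
  [AddCommGroup W] [Module (ZMod p) W] [Finite W] {ρ : C →* (W ≃ₗ[ZMod p] W)} [hZ : (Zc M C).Normal] [hM : M.Normal]

/-- elements of `C` acting trivially on `V` lie over `V` -/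
theorem mem_V_of_phi (h : BSit p e A M C ρ) (hsq : ∀ x ∈ M, x * x ∈ A)
    (hcm : ∀ x ∈ M, ∀ y ∈ M, x * y * x⁻¹ * y⁻¹ ∈ A) {d : H} (hd : d ∈ C) (h1 : phi M C d = 1) :
    QuotientGroup.mk' (Zc M C) d ∈ Vb M C := by
  obtain ⟨m, hm, hz⟩ := phi_eq_one h hsq hcm hd h1
  refine ⟨m, hm, ?_⟩
  have h2 := mk_eq_one.2 hz
  rw [map_mul, map_inv, inv_mul_eq_one] at h2
  exact h2

/-- **the bound for the class number** -/
theorem main (h : BSit p e A M C ρ) (hsq : ∀ x ∈ M, x * x ∈ A) (hcm : ∀ x ∈ M, ∀ y ∈ M, x * y * x⁻¹ * y⁻¹ ∈ A)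
    {r : ℕ} {P : Subgroup (MulAut (Vb M C))} (F : Frob r P (phi M C).range) {u : ℕ}
    (hu : ∀ k, k * k ≤ Nat.card (Vb M C) → k ≤ u) {N : Subgroup H} (hN : N.IsSubnormal) (hNC : N ≤ C) :
    kc N ≤ Nat.card (Vb M C) * Nat.card (Zc M C) ∨ ∃ j, 1 ≤ j ∧ j + 1 ≤ r ∧
      2 * kc N * (r * j) ≤ Nat.card (Zc M C) *
        (Nat.card (Vb M C) + 1 + 2 * (r ^ 2 - 1) + (1 + u) * (r * (j ^ 2 - 1))) := by
  classical
  rcases subn h hcm F hN with h0 | ⟨hP, hV⟩
  · left
    refine (kc_le_card _).trans ?_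
    have h1 : ∀ n : N, ∃ m ∈ M, m⁻¹ * (n : H) ∈ Zc M C := fun n => phi_eq_one h hsq hcm (hNC n.2) (h0 n n.2)
    have h2 : ∀ n : N, QuotientGroup.mk' (Zc M C) n ∈ Vb M C := fun n => mem_V_of_phi h hsq hcm (hNC n.2) (h0 n n.2)
    have h3 : ∀ v : Vb M C, ∃ m : H, QuotientGroup.mk' (Zc M C) m = v := fun v => QuotientGroup.mk'_surjective _ _
    choose g hg using h3
    have h4 : ∀ n : N, (g ⟨_, h2 n⟩)⁻¹ * (n : H) ∈ Zc M C := by
      intro n
      rw [← mk_eq_one (M := M) (C := C), map_mul, map_inv, hg, inv_mul_cancel]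
    rw [← Nat.card_prod]
    refine Nat.card_le_card_of_injective (fun n : N => ((⟨_, h2 n⟩ : Vb M C), (⟨_, h4 n⟩ : Zc M C))) ?_
    intro n n' hnn
    obtain ⟨h5, h6⟩ := Prod.ext_iff.1 hnn
    have h7 : (g ⟨_, h2 n⟩)⁻¹ * (n : H) = (g ⟨_, h2 n'⟩)⁻¹ * (n' : H) := congrArg Subtype.val h6
    have h8 : (⟨_, h2 n⟩ : Vb M C) = ⟨_, h2 n'⟩ := h5
    rw [h8] at h7
    exact Subtype.ext (mul_left_cancel h7)
  right
  set φ := (phi M C).comp N.subtype with hφ
  set X := φ.range with hX
  have hXmap : X = N.map (phi M C) := by rw [hX, hφ, MonoidHom.range_comp, N.range_subtype]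
  have hXQ : X ≤ (phi M C).range := by
    rw [hXmap, MonoidHom.range_eq_map]
    exact map_mono le_top
  have hPX : P ≤ X := by rw [hXmap]; exact hP
  set π : N →* X := φ.rangeRestrict with hπ
  have hπs : Function.Surjective π := φ.rangeRestrict_surjective
  have hπ1 : ∀ n : N, π n = 1 ↔ phi M C n = 1 := by
    intro n
    rw [Subtype.ext_iff]
    rfl
  have hfinA : Finite (MulAut (Vb M C)) := by
    have : Finite (Vb M C) := inferInstance
    exact Finite.of_injective (fun x : MulAut (Vb M C) => (x : Vb M C → Vb M C)) fun x y h => by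
      ext v
      exact congrArg Subtype.val (congrFun h v)
  set P' := P.subgroupOf X with hP'
  have hr : Nat.card P' = r := by rw [hP', Nat.card_congr (subgroupOfEquivOfLe hPX).toEquiv, F.card]
  obtain ⟨j, hj⟩ : r ∣ Nat.card X := F.card ▸ Subgroup.card_dvd_of_le hPX
  have hr0 := F.pr.pos
  set f := (QuotientGroup.mk' (Zc M C)).comp N.subtype with hf
  set Y := (Zc M C).subgroupOf N with hY
  have hfker : f.ker = Y := by
    ext n
    rw [MonoidHom.mem_ker, hY, mem_subgroupOf]
    exact mk_eq_one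
  have hkerV : ∀ n : N, π n = 1 ↔ f n ∈ Vb M C := by
    intro n
    rw [hπ1]
    exact ⟨fun hn => mem_V_of_phi h hsq hcm (hNC n.2) hn, fun hn => phi_of_mem h hcm hn⟩
  have hfr : Vb M C ≤ f.range := by
    rw [hf, MonoidHom.range_comp, N.range_subtype]
    exact hV
  -- lifts of the elements of `M`
  have hlift : ∀ m ∈ M, ∃ n : N, π n = 1 ∧ (n : H)⁻¹ * m ∈ Zc M C := by
    intro m hm
    obtain ⟨n, hn⟩ := hfr (vm m hm : Vb M C).2
    refine ⟨n, ?_, ?_⟩
    · rw [hkerV, hn]
      exact (vm m hm : Vb M C).2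
    · rw [← mk_eq_one (M := M) (C := C), map_mul, map_inv, inv_mul_eq_one]
      exact hn
  have hYle : Nat.card Y ≤ Nat.card (Zc M C) := by
    rw [hY]
    refine Nat.card_le_card_of_injective (fun y => (⟨_, mem_subgroupOf.1 y.2⟩ : Zc M C)) ?_
    intro y y' hyy
    exact Subtype.ext (Subtype.ext (congrArg (fun t : Zc M C => (t : H)) hyy))
  refine ⟨j, ?_, ?_, ?_⟩
  · rcases Nat.eq_zero_or_pos j with h1 | h1
    · rw [h1, mul_zero] at hj
      exact absurd hj Nat.card_pos.ne'
    · exact h1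
  · have h1 := F.card_le hXQ
    rw [hj, mul_comm] at h1
    have h2 := Nat.le_of_mul_le_mul_right h1 hr0
    omega
  have hcount := count hπs P' (v := Nat.card (Vb M C)) (u := u) hr hj ?_ Y ?_ ?_ ?_ ?_ ?_ ?_
  · exact hcount.trans (Nat.mul_le_mul_right _ hYle)
  · -- centralisers in `X`
    intro a ha ha1 b hab
    exact mem_subgroupOf.2 (F.cen a (mem_subgroupOf.1 ha) (fun h1 => ha1 (Subtype.ext h1)) b (hXQ b.2)
      (congrArg Subtype.val hab))
  · intro y hy x
    exact Subtype.ext (zc_comm h (mem_subgroupOf.1 hy) (hNC x.2))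
  · -- the order of the kernel
    have h1 : π.ker = (Vb M C).comap f := by
      ext n
      rw [MonoidHom.mem_ker, mem_comap]
      exact hkerV n
    rw [h1, card_comap, hfker, map_comap_eq_self hfr, mul_comm]
  · intro l n hl hn
    rw [hkerV] at hl hn
    have h1 := congrArg Subtype.val (V_comm h hcm ⟨_, hl⟩ ⟨_, hn⟩)
    have h2 : f l * f n = f n * f l := h1
    rw [← hfker, MonoidHom.mem_ker, map_mul, map_mul, map_mul, map_inv, map_inv, h2, mul_inv_cancel_right,
      mul_inv_cancel]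
  · intro n hn hnY
    rw [hkerV] at hn
    obtain ⟨m, hm, hmn⟩ := hn
    have hz : m⁻¹ * (n : H) ∈ Zc M C := by
      rw [← mk_eq_one (M := M) (C := C), map_mul, map_inv, inv_mul_eq_one]
      exact hmn
    have hmA : m ∉ A := by
      intro hmA
      apply hnY
      rw [hY, mem_subgroupOf]
      have := (Zc M C).mul_mem (le_zc h hmA) hz
      rwa [mul_inv_cancel_left] at this
    have h1 : ∃ m' ∈ M, m' * m ≠ m * m' := by
      by_contra hcon
      push Not at hcon
      exact hmA (mem_of_comm h hm hcon)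
    obtain ⟨m', hm', hne⟩ := h1
    obtain ⟨l, hl, hlm⟩ := hlift m' hm'
    refine ⟨l, hl, fun hln => hne ?_⟩
    -- `m' = l z'`, `n = m z`
    have e1 : m' = l * ((l : H)⁻¹ * m') := by rw [mul_inv_cancel_left]
    have e2 : m = n * (m⁻¹ * (n : H))⁻¹ := by rw [mul_inv_rev, inv_inv, mul_inv_cancel_left]
    set z' := (l : H)⁻¹ * m' with hz'
    set z := (m⁻¹ * (n : H))⁻¹ with hzz
    have hzZ : z ∈ Zc M C := (Zc M C).inv_mem hz
    have hlnH : (l : H) * n = n * l := congrArg Subtype.val hln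
    have c1 : z' * (n : H) = n * z' := zc_comm h hlm (hNC n.2)
    have c2 : z * (l : H) = l * z := zc_comm h hzZ (hNC l.2)
    have c3 : z * z' = z' * z := zc_comm h hzZ (mem_zc.1 hlm).1
    rw [e1, e2]
    calc (l : H) * z' * (n * z) = l * (z' * n) * z := by group
      _ = l * n * (z' * z) := by rw [c1]; group
      _ = n * l * (z * z') := by rw [hlnH, c3]
      _ = n * (l * z) * z' := by group
      _ = n * z * (l * z') := by rw [← c2]; group
  · intro x hxP hx1 n hn hxn
    rw [hkerV] at hn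
    have h1 : phi M C x ∈ P := mem_subgroupOf.1 hxP
    have h2 : phi M C x ≠ 1 := fun h => hx1 ((hπ1 x).2 h)
    have h3 := F.fpf _ h1 h2 ⟨f n, hn⟩ (by
      apply Subtype.ext
      rw [phi_apply]
      change f x * f n * (f x)⁻¹ = f n
      rw [← map_mul, hxn, map_mul, mul_inv_cancel_right])
    rw [← hfker, MonoidHom.mem_ker]
    exact congrArg Subtype.val h3
  · intro x hxP
    have h1 : phi M C x ∉ P := fun h => hxP (mem_subgroupOf.2 h)
    set a := phi M C (x : H) with ha
    have h2 : Nat.card (Frob.fixp a) ≤ u := hu _ (F.fixp_le (MonoidHom.mem_range.2 ⟨(x : H), rfl⟩) h1)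
    set U := (Frob.fixp a).map (Vb M C).subtype with hU
    have h3 : Nat.card {n : N // π n = 1 ∧ x * n * x⁻¹ * n⁻¹ ∈ Y} ≤ Nat.card (U.comap f) := by
      refine Nat.card_le_card_of_injective (fun n => (⟨n, ?_⟩ : U.comap f)) ?_
      · rw [mem_comap]
        refine ⟨⟨f n, (hkerV _).1 n.2.1⟩, ?_, rfl⟩
        change a ⟨f n, _⟩ = ⟨f n, _⟩
        apply Subtype.ext
        rw [ha, phi_apply]
        change f x * f n * (f x)⁻¹ = f n
        have h4 : x * (n : N) * x⁻¹ * (n : N)⁻¹ ∈ f.ker := by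
          rw [hfker]
          exact n.2.2
        rw [MonoidHom.mem_ker, map_mul, map_mul, map_mul, map_inv, map_inv, mul_inv_eq_one] at h4
        exact h4
      · intro n n' hnn
        exact Subtype.ext (congrArg (fun t : U.comap f => (t : N)) hnn)
    refine h3.trans ?_
    rw [card_comap, hfker]
    apply Nat.mul_le_mul_left
    refine le_trans ?_ h2
    have h4 : Nat.card U = Nat.card (Frob.fixp a) :=
      (Nat.card_congr ((Frob.fixp a).equivMapOfInjective _ (Vb M C).subtype_injective).toEquiv).symm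
    rw [← h4]
    exact Subgroup.card_le_of_le (map_comap_le _ _)

end Base

end Cfsg.Agent.H173.KGL
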