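import Cfsg.Agent.H173.KGL.Main

/-!
# Self-centralising subgroups of prime order from an orbit of prime length (helper173, project KGL)
-/

set_option autoImplicit false
set_option linter.unusedSectionVars false

namespace Cfsg.Agent.H173.KGL

open Subgroup Cfsg.Agent.H475.KGL

section Orbit

variable {V : Type*} [Group V] [Finite V]

theorem finite_mulAut : Finite (MulAut V) :=
  Finite.of_injective (fun x : MulAut V => (x : V → V)) fun x y h => by
    ext v
    exact congrFun h v

/-- the fixed points of an automorphism of `r`-power order -/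
theorem card_fixp_modEq {r : ℕ} [hr : Fact r.Prime] {a : MulAut V} (ha : IsPGroup r (zpowers a)) :
    Nat.card V ≡ Nat.card (Frob.fixp a) [MOD r] := by
  have h1 := ha.card_modEq_card_fixedPoints V
  suffices h0 : Nat.card (MulAction.fixedPoints (zpowers a) V) = Nat.card (Frob.fixp a) by rwa [h0] at h1
  refine Nat.card_congr (Equiv.subtypeEquivRight fun v => ?_)
  constructor
  · intro hv
    exact hv ⟨a, mem_zpowers a⟩
  · rintro hv ⟨_, n, rfl⟩
    have h2 : ∀ n : ℕ, (a ^ n) v = v := by
      intro n
      induction n with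
      | zero => rfl
      | succ n ih =>
        rw [pow_succ, MulAut.mul_apply, show a v = v from hv, ih]
    change (a ^ n) v = v
    obtain ⟨k, rfl | rfl⟩ := n.eq_nat_or_neg
    · rw [zpow_natCast]
      exact h2 k
    · rw [zpow_neg, zpow_natCast, MulAut.inv_apply, MulEquiv.symm_apply_eq, h2 k]

/-- **`Frob` from an orbit of prime length** -/
theorem frob_of_orbit (Q : Subgroup (MulAut V)) {r : ℕ} (hr : r.Prime) (O : Set V) (hO : Nat.card O = r)
    (hinv : ∀ q ∈ Q, ∀ o ∈ O, q o ∈ O) (htr : ∀ o ∈ O, ∀ o' ∈ O, ∃ q ∈ Q, q o = o')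
    (hfa : ∀ q ∈ Q, (∀ o ∈ O, q o = o) → q = 1)
    (hidx : ∀ n, r * n ∣ r.factorial → r * n ∣ Nat.card Q → n ≡ 1 [MOD r] → n = 1)
    (hfix : ∀ n, n ∣ Nat.card V → Nat.card V ≡ n [MOD r] → n = 1 ∨ n = Nat.card V) :
    ∃ P, Frob r P Q := by
  classical
  have hfr : Fact r.Prime := ⟨hr⟩
  have hfA : Finite (MulAut V) := finite_mulAut
  have hOf : Finite O := inferInstance
  let act : MulAction Q O :=
    { smul := fun q o => ⟨(q : MulAut V) o, hinv q q.2 o o.2⟩
      one_smul := fun o => rfl
      mul_smul := fun q q' o => rfl }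
  have hsm : ∀ (q : Q) (o : O), ((q • o : O) : V) = (q : MulAut V) o := fun _ _ => rfl
  obtain ⟨o0⟩ : Nonempty O := by
    have h1 : Nat.card O ≠ 0 := by rw [hO]; exact hr.ne_zero
    exact (Nat.card_ne_zero.1 h1).1
  have hpre : MulAction.IsPretransitive Q O := ⟨fun o o' => by
    obtain ⟨q, hq, h⟩ := htr o o.2 o' o'.2
    exact ⟨⟨q, hq⟩, Subtype.ext h⟩⟩
  have hinj : Function.Injective (MulAction.toPermHom Q O) := by
    rw [injective_iff_map_eq_one]
    intro q hq
    apply Subtype.ext
    refine hfa q q.2 fun o ho => ?_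
    have h1 : (MulAction.toPermHom Q O q) ⟨o, ho⟩ = ⟨o, ho⟩ := by rw [hq]; rfl
    exact congrArg Subtype.val h1
  -- the order of `Q`
  have hd1 : r ∣ Nat.card Q := by
    rw [← hO, ← MulAction.index_stabilizer_of_transitive Q o0]
    exact Subgroup.index_dvd_card _
  have hd2 : Nat.card Q ∣ r.factorial := by
    have h1 := Subgroup.card_dvd_of_injective _ hinj
    rwa [Nat.card_perm, hO] at h1
  have hd3 : ¬ r ^ 2 ∣ Nat.card Q := by
    intro h
    have h1 := h.trans hd2
    obtain ⟨s, rfl⟩ := Nat.exists_eq_succ_of_ne_zero hr.ne_zero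
    rw [Nat.factorial_succ, pow_two] at h1
    have h2 := Nat.dvd_of_mul_dvd_mul_left (Nat.succ_pos s) h1
    rw [hr.dvd_factorial] at h2
    omega
  -- the Sylow subgroup
  obtain ⟨S⟩ : Nonempty (Sylow r Q) := inferInstance
  have hScard : Nat.card S = r := by
    obtain ⟨n, hn⟩ := IsPGroup.iff_card.1 S.isPGroup'
    have h1 : n ≤ 1 := by
      by_contra hcon
      apply hd3
      have h2 : r ^ 2 ∣ Nat.card S := by rw [hn]; exact pow_dvd_pow r (by omega)
      exact h2.trans (Subgroup.card_subgroup_dvd_card _)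
    have h2 := S.dvd_card_of_dvd_card hd1
    rw [hn] at h2 ⊢
    have h3 : n ≠ 0 := by
      rintro rfl
      rw [pow_zero, Nat.dvd_one] at h2
      exact hr.one_lt.ne' h2
    have h4 : n = 1 := by omega
    rw [h4, pow_one]
  have hSn : (S : Subgroup Q).Normal := by
    have h1 : Nat.card (Sylow r Q) = 1 := by
      have h2 : r * Nat.card (Sylow r Q) ∣ Nat.card Q := by
        have h3 := (S : Subgroup Q).card_mul_index
        rw [hScard] at h3
        rw [← h3]
        exact Nat.mul_dvd_mul_left r (Sylow.card_dvd_index S)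
      exact hidx _ (h2.trans hd2) h2 (card_sylow_modEq_one r Q)
    have h2 : Subsingleton (Sylow r Q) := (Nat.card_eq_one_iff_unique.1 h1).1
    exact Sylow.normal_of_subsingleton S
  refine ⟨(S : Subgroup Q).map Q.subtype, ?_⟩
  have hPcard : Nat.card ((S : Subgroup Q).map Q.subtype) = r :=
    (Nat.card_congr ((S : Subgroup Q).equivMapOfInjective _ Q.subtype_injective).toEquiv).symm.trans hScard
  have hord : ∀ a ∈ (S : Subgroup Q).map Q.subtype, a ≠ 1 → orderOf a = r := by
    intro a ha ha1
    have h1 : orderOf a ∣ r := by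
      rw [← hPcard, ← Subgroup.orderOf_mk a ha]
      exact orderOf_dvd_natCard _
    rcases (Nat.dvd_prime hr).1 h1 with h2 | h2
    · exact absurd (orderOf_eq_one_iff.1 h2) ha1
    · exact h2
  refine ⟨hr, map_subtype_le _, hPcard, ?_, ?_, ?_⟩
  · rintro q hq _ ⟨a, ha, rfl⟩
    exact ⟨_, hSn.conj_mem a ha ⟨q, hq⟩, rfl⟩
  · intro a ha ha1 q hq hc
    have haQ : a ∈ Q := map_subtype_le _ ha
    -- `⟨a⟩` is transitive
    have htrans : ∃ o : O, ∀ o' : O, ∃ i : ℤ, (a ^ i) (o : V) = o' := by
      have h1 : ∃ o : O, a (o : V) ≠ o := by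
        by_contra hcon
        push Not at hcon
        exact ha1 (hfa a haQ fun o ho => hcon ⟨o, ho⟩)
      obtain ⟨o, ho⟩ := h1
      refine ⟨o, ?_⟩
      have h2 : (MulAction.orbit (zpowers (⟨a, haQ⟩ : Q)) o).ncard ∣ r := by
        rw [← MulAction.index_stabilizer]
        have h3 := Subgroup.index_dvd_card (MulAction.stabilizer (zpowers (⟨a, haQ⟩ : Q)) o)
        rwa [Nat.card_zpowers, Subgroup.orderOf_mk, hord a ha ha1] at h3
      have h3 : (MulAction.orbit (zpowers (⟨a, haQ⟩ : Q)) o).ncard = r := by
        rcases (Nat.dvd_prime hr).1 h2 with h4 | h4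
        · exfalso
          apply ho
          obtain ⟨x, hx⟩ := Set.ncard_eq_one.1 h4
          have h5 : o ∈ MulAction.orbit (zpowers (⟨a, haQ⟩ : Q)) o := MulAction.mem_orbit_self o
          have h6 : (⟨⟨a, haQ⟩, mem_zpowers _⟩ : zpowers (⟨a, haQ⟩ : Q)) • o ∈ MulAction.orbit (zpowers (⟨a, haQ⟩ : Q)) o :=
            MulAction.mem_orbit o _
          rw [hx, Set.mem_singleton_iff] at h5 h6
          have h7 := h6.trans h5.symm
          exact congrArg Subtype.val h7
        · exact h4
      have h4 : MulAction.orbit (zpowers (⟨a, haQ⟩ : Q)) o = Set.univ := by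
        apply Set.eq_of_subset_of_ncard_le (Set.subset_univ _)
        rw [Set.ncard_univ, hO, h3]
      intro o'
      have h5 : o' ∈ MulAction.orbit (zpowers (⟨a, haQ⟩ : Q)) o := by rw [h4]; trivial
      obtain ⟨⟨_, i, rfl⟩, hi⟩ := h5
      refine ⟨i, ?_⟩
      have h6 := congrArg Subtype.val hi
      exact h6
    obtain ⟨o, ho⟩ := htrans
    obtain ⟨i, hi⟩ := ho ⟨q o, hinv q hq o o.2⟩
    have h1 : q = a ^ i := by
      have h2 : (a ^ i)⁻¹ * q = 1 := by
        refine hfa _ (Q.mul_mem (Q.inv_mem (Q.zpow_mem haQ i)) hq) fun o' ho' => ?_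
        obtain ⟨k, hk⟩ := ho ⟨o', ho'⟩
        have hk' : (a ^ k) (o : V) = o' := hk
        have hcq : Commute a q := hc
        have hc2 : Commute ((a ^ i)⁻¹ * q) (a ^ k) := by
          refine Commute.mul_left ?_ (hcq.symm.zpow_right k)
          exact ((Commute.refl a).zpow_zpow i k).inv_left
        have h3 : ((a ^ i)⁻¹ * q) ((a ^ k) (o : V)) = (a ^ k) (((a ^ i)⁻¹ * q) (o : V)) :=
          congrArg (fun t : MulAut V => t (o : V)) hc2.eq
        have h4 : ((a ^ i)⁻¹ * q) (o : V) = o := by
          rw [MulAut.mul_apply, show q (o : V) = (a ^ i) (o : V) from hi.symm, MulAut.inv_apply_self]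
        rw [hk', h4, hk'] at h3
        exact h3
      exact (inv_mul_eq_one.1 h2).symm
    rw [h1]
    exact zpow_mem ha i
  · intro a ha ha1 v hv
    have h1 : IsPGroup r (zpowers a) := IsPGroup.of_card (n := 1) (by rw [Nat.card_zpowers, hord a ha ha1, pow_one])
    rcases hfix _ (Subgroup.card_subgroup_dvd_card (Frob.fixp a)) (card_fixp_modEq h1) with h2 | h2
    · have h3 : Frob.fixp a = ⊥ := Subgroup.card_eq_one.1 h2
      have h4 : v ∈ Frob.fixp a := hv
      rw [h3, mem_bot] at h4
      exact h4
    · exfalso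
      apply ha1
      have h3 : Frob.fixp a = ⊤ := Subgroup.eq_top_of_card_eq _ h2
      ext w
      have h4 : w ∈ Frob.fixp a := by rw [h3]; trivial
      exact h4

end Orbit

section Exp2

variable {V : Type*} [CommGroup V] [Finite V]

/-- the order of a subgroup generated by `n` elements of order two -/
theorem card_closure_le [DecidableEq V] (h2 : ∀ v : V, v * v = 1) (S : Finset V) :
    Nat.card (closure (S : Set V)) ≤ 2 ^ S.card := by
  induction S using Finset.induction_on with
  | empty =>
    rw [Finset.coe_empty, Subgroup.closure_empty, Subgroup.card_bot, Finset.card_empty, pow_zero]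
  | insert a S ha ih =>
    have hinv : ∀ x : V, x⁻¹ = x := fun x => inv_eq_of_mul_eq_one_left (h2 x)
    have h1 : ∀ x ∈ closure ((insert a S : Finset V) : Set V), x ∈ closure (S : Set V) ∨ a * x ∈ closure (S : Set V) := by
      intro x hx
      induction hx using Subgroup.closure_induction with
      | mem x hx =>
        rw [Finset.coe_insert, Set.mem_insert_iff] at hx
        rcases hx with rfl | hx
        · right
          rw [h2]
          exact one_mem _
        · exact Or.inl (subset_closure hx)
      | one => exact Or.inl (one_mem _)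
      | mul x y _ _ hx hy =>
        rcases hx with hx | hx <;> rcases hy with hy | hy
        · exact Or.inl (mul_mem hx hy)
        · right
          have := mul_mem hx hy
          rwa [mul_left_comm] at this
        · right
          have := mul_mem hx hy
          rwa [mul_assoc] at this
        · left
          have := mul_mem hx hy
          rwa [mul_mul_mul_comm, h2, one_mul] at this
      | inv x _ hx => rwa [hinv]
    classical
    have h3 : Nat.card (closure ((insert a S : Finset V) : Set V)) ≤ Nat.card (Bool × closure (S : Set V)) := by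
      refine Nat.card_le_card_of_injective (fun x => if h : (x : V) ∈ closure (S : Set V) then (true, ⟨x, h⟩)
        else (false, ⟨a * x, (h1 x x.2).resolve_left h⟩)) ?_
      intro x y hxy
      by_cases hx : (x : V) ∈ closure (S : Set V) <;> by_cases hy : (y : V) ∈ closure (S : Set V)
      · simp only [hx, hy, dif_pos, Prod.mk.injEq, Subtype.mk.injEq, true_and] at hxy
        exact Subtype.ext hxy
      · simp [hx, hy] at hxy
      · simp [hx, hy] at hxy
      · simp only [hx, hy, dif_neg, not_false_eq_true, Prod.mk.injEq, Subtype.mk.injEq, true_and] at hxy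
        exact Subtype.ext (mul_left_cancel hxy)
    have hb : Nat.card Bool = 2 := by rw [Nat.card_eq_fintype_card, Fintype.card_bool]
    rw [Nat.card_prod, hb] at h3
    rw [Finset.card_insert_of_notMem ha, pow_succ, mul_comm]
    exact h3.trans (Nat.mul_le_mul_left 2 ih)

/-- **orbits are not too short** -/
theorem orbit_ge (h2 : ∀ v : V, v * v = 1) (hV : 2 < Nat.card V) (Q : Subgroup (MulAut V))
    (hirr : ∀ U : Subgroup V, (∀ q ∈ Q, ∀ u ∈ U, q u ∈ U) → U = ⊥ ∨ U = ⊤) {v : V} (hv : v ≠ 1) :
    closure (MulAction.orbit Q v) = ⊤ ∧ Nat.card V ≤ 2 ^ (Nat.card (MulAction.orbit Q v) - 1) := by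
  classical
  have : Fintype V := Fintype.ofFinite V
  have hsm : ∀ q ∈ Q, ∀ o ∈ MulAction.orbit Q v, q o ∈ MulAction.orbit Q v := by
    intro q hq o ho
    exact (MulAction.mem_orbit_of_mem_orbit (⟨q, hq⟩ : Q) ho)
  have hcl : closure (MulAction.orbit Q v) = ⊤ := by
    rcases hirr (closure (MulAction.orbit Q v)) (fun q hq u hu => by
      have h1 : (closure (MulAction.orbit Q v)).map q.toMonoidHom ≤ closure (MulAction.orbit Q v) := by
        rw [MonoidHom.map_closure, closure_le]
        rintro _ ⟨o, ho, rfl⟩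
        exact subset_closure (hsm q hq o ho)
      exact h1 ⟨u, hu, rfl⟩) with h1 | h1
    · exfalso
      apply hv
      have h3 : v ∈ closure (MulAction.orbit Q v) := subset_closure (MulAction.mem_orbit_self v)
      rwa [h1, mem_bot] at h3
    · exact h1
  refine ⟨hcl, ?_⟩
  set O : Finset V := (MulAction.orbit Q v).toFinset with hO
  have hmem : ∀ {x}, x ∈ O ↔ x ∈ MulAction.orbit Q v := by
    intro x
    rw [hO, Set.mem_toFinset]
  -- the product of the orbit is fixed
  have hprod : ∏ o ∈ O, o = 1 := by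
    by_contra hne
    set w := ∏ o ∈ O, o with hw
    have hfix : ∀ q ∈ Q, q w = w := by
      intro q hq
      rw [hw, map_prod]
      refine Finset.prod_bij (fun o _ => q o) ?_ ?_ ?_ ?_
      · intro o ho
        exact hmem.2 (hsm q hq o (hmem.1 ho))
      · intro o _ o' _ h
        exact q.injective h
      · intro o ho
        refine ⟨q⁻¹ o, hmem.2 (hsm _ (Q.inv_mem hq) o (hmem.1 ho)), MulAut.apply_inv_self _ _ _⟩
      · intro o _
        rfl
    rcases hirr (zpowers w) (fun q hq u hu => by
      obtain ⟨n, rfl⟩ := hu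
      change q (w ^ n) ∈ _
      rw [map_zpow, hfix q hq]
      exact ⟨n, rfl⟩) with h1 | h1
    · exact hne (zpowers_eq_bot.1 h1)
    · have h3 : Nat.card (zpowers w) = Nat.card V := by rw [h1, Subgroup.card_top]
      rw [Nat.card_zpowers] at h3
      have h4 : orderOf w ∣ 2 := orderOf_dvd_of_pow_eq_one (by rw [pow_two, h2])
      have h5 := Nat.le_of_dvd (by norm_num) h4
      omega
  have hvO : v ∈ O := hmem.2 (MulAction.mem_orbit_self v)
  have h3 : closure ((O.erase v : Finset V) : Set V) = ⊤ := by
    rw [eq_top_iff, ← hcl, closure_le]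
    intro x hx
    by_cases hxv : x = v
    · have h4 : (∏ o ∈ O.erase v, o)⁻¹ = v := by
        rw [inv_eq_iff_mul_eq_one, mul_comm, Finset.mul_prod_erase O (fun o => o) hvO, hprod]
      have h5 : (∏ o ∈ O.erase v, o) ∈ Subgroup.closure ((O.erase v : Finset V) : Set V) :=
        Subgroup.prod_mem _ fun o ho => Subgroup.subset_closure (Finset.mem_coe.2 ho)
      have h6 := inv_mem h5
      rw [h4] at h6
      rw [hxv]
      exact h6
    · exact subset_closure (Finset.mem_coe.2 (Finset.mem_erase.2 ⟨hxv, hmem.2 hx⟩))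
  have h4 := card_closure_le h2 (O.erase v)
  rw [h3, Subgroup.card_top, Finset.card_erase_of_mem hvO] at h4
  have h5 : Nat.card (MulAction.orbit Q v) = O.card := by
    rw [hO, Nat.card_eq_fintype_card, Set.toFinset_card]
  rw [h5]
  exact h4

end Exp2

end Cfsg.Agent.H173.KGL
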