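import Cfsg.Agent.H173.KGL.RowN1

/-!
# Project KGL, task E3: `p = q = 3`, `|M / A| = 16`, `|W| = 81` (helper173)
-/

set_option autoImplicit false
set_option linter.unusedSectionVars false

namespace Cfsg.Agent.H173.KGL

open Subgroup Cfsg.Agent.H475.KGL

universe u v

section Seven

variable {p e : ℕ} [Fact p.Prime] {H : Type u} [Group H] [Finite H] {A M C : Subgroup H} {W : Type v}
  [AddCommGroup W] [Module (ZMod p) W] [Finite W] {ρ : C →* (W ≃ₗ[ZMod p] W)} [hZ : (Zc M C).Normal] [hM : M.Normal]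

/-- products of elements not commuting with `m0` -/
theorem comm_of_not (h : BSit p e A M C ρ) (hsq : ∀ x ∈ M, x * x ∈ A)
    (hcm : ∀ x ∈ M, ∀ y ∈ M, x * y * x⁻¹ * y⁻¹ ∈ A) {m0 x y : H} (h0 : m0 ∈ M) (hx : x ∈ M) (hy : y ∈ M)
    (hx0 : x * m0 ≠ m0 * x) (hy0 : y * m0 ≠ m0 * y) : (x * y) * m0 = m0 * (x * y) := by
  have e1 : ∀ {a b : H}, a * b * a⁻¹ * b⁻¹ = 1 ↔ a * b = b * a := by
    intro a b
    rw [mul_inv_eq_one, mul_inv_eq_iff_eq_mul]
  have hcx := comm_sq h hsq (h.le hx) (fun m hm => hcm x hx m hm) h0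
  have hcy := comm_sq h hsq (h.le hy) (fun m hm => hcm y hy m hm) h0
  have h1 := zc_inv h (le_zc h (hcm x hx m0 h0)) (le_zc h (hcm y hy m0 h0)) hcx hcy (fun h => hx0 (e1.1 h))
    (fun h => hy0 (e1.1 h))
  set c := x * m0 * x⁻¹ * m0⁻¹ with hc
  have hx1 : x * m0 * x⁻¹ = c * m0 := by rw [hc, inv_mul_cancel_right]
  have hy1 : y * m0 * y⁻¹ = c * m0 := by rw [h1, inv_mul_cancel_right]
  have hcA : c ∈ A := hcm x hx m0 h0
  have h2 : (x * y) * m0 * (x * y)⁻¹ = m0 := by
    calc (x * y) * m0 * (x * y)⁻¹ = x * (y * m0 * y⁻¹) * x⁻¹ := by group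
      _ = x * (c * m0) * x⁻¹ := by rw [hy1]
      _ = (x * c) * m0 * x⁻¹ := by group
      _ = (c * x) * m0 * x⁻¹ := by rw [h.com c hcA x hx]
      _ = c * (x * m0 * x⁻¹) := by group
      _ = c * (c * m0) := by rw [hx1]
      _ = (c * c) * m0 := by group
      _ = m0 := by rw [hcx, one_mul]
  rwa [mul_inv_eq_iff_eq_mul] at h2

/-- the elements of `V` commuting with `m0` -/
def perp (h : BSit p e A M C ρ) (m0 : H) : Subgroup (Vb M C) where
  carrier := {v | ∀ m, ∀ hm : m ∈ M, v = vm m hm → m0 ∈ M → m * m0 = m0 * m}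
  one_mem' := by
    intro m hm hv h0
    rw [eq_comm, vm_eq_one] at hv
    exact ((mem_zc.1 hv).2 m0 h0).symm
  mul_mem' := by
    intro a b ha hb m hm hv h0
    obtain ⟨x, hx, rfl⟩ := exists_vm a
    obtain ⟨y, hy, rfl⟩ := exists_vm b
    have h1 := ha x hx rfl h0
    have h2 := hb y hy rfl h0
    have h3 : (vm (x * y) (M.mul_mem hx hy) : Vb M C) = vm m hm := hv
    rw [vm_eq] at h3
    have h4 := (mem_zc.1 h3).2 m0 h0
    have h5 : Commute m0 m := by
      have h6 : m = (x * y * m⁻¹)⁻¹ * (x * y) := by group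
      rw [h6]
      have h7 : Commute m0 (x * y * m⁻¹) := h4
      exact h7.inv_right.mul_right ((show Commute m0 x from h1.symm).mul_right (show Commute m0 y from h2.symm))
    exact h5.symm.eq
  inv_mem' := by
    intro a ha m hm hv h0
    obtain ⟨x, hx, rfl⟩ := exists_vm a
    have h1 := ha x hx rfl h0
    have h3 : (vm x⁻¹ (M.inv_mem hx) : Vb M C) = vm m hm := hv
    rw [vm_eq] at h3
    have h4 := (mem_zc.1 h3).2 m0 h0
    have h5 : Commute m0 m := by
      have h6 : m = (x⁻¹ * m⁻¹)⁻¹ * x⁻¹ := by group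
      rw [h6]
      have h7 : Commute m0 (x⁻¹ * m⁻¹) := h4
      exact h7.inv_right.mul_right (show Commute m0 x from h1.symm).inv_right
    exact h5.symm.eq

theorem mem_perp (h : BSit p e A M C ρ) {m0 m : H} (h0 : m0 ∈ M) (hm : m ∈ M) :
    vm m hm ∈ perp h m0 ↔ m * m0 = m0 * m := by
  constructor
  · intro hv
    exact hv m hm rfl h0
  · intro hc m' hm' hv _
    rw [vm_eq] at hv
    have h4 := (mem_zc.1 hv).2 m0 h0
    have h5 : Commute m0 m' := by
      have h6 : m' = (m * m'⁻¹)⁻¹ * m := by group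
      rw [h6]
      have h7 : Commute m0 (m * m'⁻¹) := h4
      exact h7.inv_right.mul_right (show Commute m0 m from hc.symm)
    exact h5.symm.eq

/-- **no elements of order 7** -/
theorem no_seven (h : BSit p e A M C ρ) (hsq : ∀ x ∈ M, x * x ∈ A)
    (hcm : ∀ x ∈ M, ∀ y ∈ M, x * y * x⁻¹ * y⁻¹ ∈ A) (hV : Nat.card (Vb M C) = 16) :
    ¬ 7 ∣ Nat.card (phi M C).range := by
  intro h7
  have hf7 : Fact (Nat.Prime 7) := ⟨by norm_num⟩
  have hfA : Finite (MulAut (Vb M C)) := finite_mulAut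
  obtain ⟨⟨g, hgr⟩, hg⟩ := exists_prime_orderOf_dvd_card' 7 h7
  rw [Subgroup.orderOf_mk] at hg
  obtain ⟨x, hgdef⟩ := MonoidHom.mem_range.1 hgr
  have hgp : IsPGroup 7 (zpowers g) := IsPGroup.of_card (n := 1) (by rw [Nat.card_zpowers, hg, pow_one])
  have hfix := card_fixp_modEq hgp
  have hfd := Subgroup.card_subgroup_dvd_card (Frob.fixp g)
  rw [hV] at hfix hfd
  have hfc : Nat.card (Frob.fixp g) = 2 := by
    have h1 := Nat.le_of_dvd (by norm_num) hfd
    have h2 : Nat.card (Frob.fixp g) ≠ 16 := by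
      intro h2
      have h3 : Frob.fixp g = ⊤ := Subgroup.eq_top_of_card_eq _ (h2.trans hV.symm)
      have h4 : g = 1 := by
        ext w
        have h5 : w ∈ Frob.fixp g := by rw [h3]; trivial
        exact congrArg Subtype.val (show g w = w from h5)
      rw [h4, orderOf_one] at hg
      norm_num at hg
    generalize Nat.card (Frob.fixp g) = n at *
    interval_cases n <;> first | rfl | (exfalso; revert hfd hfix h2; decide)
  -- the fixed element
  have hnt : Nontrivial (Frob.fixp g) := by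
    rw [← Finite.one_lt_card_iff_nontrivial, hfc]
    norm_num
  obtain ⟨⟨v0, hv0⟩, hv01⟩ := exists_ne (1 : Frob.fixp g)
  have hv01' : v0 ≠ 1 := fun h => hv01 (Subtype.ext h)
  obtain ⟨m0, h0, rfl⟩ := exists_vm v0
  have hm0A : m0 ∉ A := fun hA => hv01' ((vm_eq_one h0).2 (le_zc h hA))
  obtain ⟨m1, h1, hm1⟩ : ∃ m ∈ M, m * m0 ≠ m0 * m := by
    by_contra hcon
    push Not at hcon
    exact hm0A (mem_of_comm h h0 hcon)
  set U := perp h m0 with hU
  have hU2 : U.index = 2 := by
    rw [Subgroup.index_eq_two_iff]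
    refine ⟨vm m1 h1, fun b => ?_⟩
    obtain ⟨m, hm, rfl⟩ := exists_vm b
    have e1 : (vm m hm * vm m1 h1 : Vb M C) = vm (m * m1) (M.mul_mem hm h1) := rfl
    rw [e1, hU, mem_perp h h0, mem_perp h h0]
    by_cases hc : m * m0 = m0 * m
    · refine Or.inr ⟨hc, fun h2 => hm1 ?_⟩
      have h3 : Commute (m⁻¹ * (m * m1)) m0 := ((show Commute m m0 from hc).inv_left).mul_left h2
      rwa [inv_mul_cancel_left] at h3
    · exact Or.inl ⟨comm_of_not h hsq hcm h0 hm h1 hc hm1, hc⟩
  have hU8 : Nat.card U = 8 := by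
    have h2 := U.card_mul_index
    rw [hU2, hV] at h2
    omega
  -- `U` is invariant
  have hinv : ∀ u ∈ U, g u ∈ U := by
    intro u hu
    obtain ⟨m, hm, rfl⟩ := exists_vm u
    rw [hU, mem_perp h h0] at hu
    rw [← hgdef, phi_vm, hU, mem_perp h h0]
    have h2 : g (vm m0 h0) = vm m0 h0 := hv0
    rw [← hgdef, phi_vm, vm_eq] at h2
    have h3 : Commute (x * m * x⁻¹) (x * m0 * x⁻¹) := by
      change x * m * x⁻¹ * (x * m0 * x⁻¹) = x * m0 * x⁻¹ * (x * m * x⁻¹)
      calc x * m * x⁻¹ * (x * m0 * x⁻¹) = x * (m * m0) * x⁻¹ := by group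
        _ = x * (m0 * m) * x⁻¹ := by rw [hu]
        _ = _ := by group
    have h4 : Commute (x * m * x⁻¹) (x * m0 * x⁻¹ * m0⁻¹) := (mem_zc.1 h2).2 _ (hM.conj_mem m hm x)
    have h5 : m0 = (x * m0 * x⁻¹ * m0⁻¹)⁻¹ * (x * m0 * x⁻¹) := by group
    have h6 : Commute (x * m * x⁻¹) m0 := by
      rw [h5]
      exact h4.inv_right.mul_right h3
    exact h6.eq
  let gU0 : U →* U := (g.toMonoidHom.comp U.subtype).codRestrict U fun u => hinv u u.2
  have hgU0 : Function.Injective gU0 := by
    intro u u' huu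
    exact Subtype.ext (g.injective (congrArg Subtype.val huu))
  let gU : MulAut U := MulEquiv.ofBijective gU0 ⟨hgU0, Finite.surjective_of_injective hgU0⟩
  have hgU : ∀ u : U, ((gU u : U) : Vb M C) = g u := fun _ => rfl
  have hgUp : IsPGroup 7 (zpowers gU) := by
    have h2 : gU ^ 7 = 1 := by
      have h3 : ∀ (n : ℕ) (u : U), (((gU ^ n) u : U) : Vb M C) = (g ^ n) u := by
        intro n
        induction n with
        | zero => intro u; rfl
        | succ n ih =>
          intro u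
          rw [pow_succ, pow_succ, MulAut.mul_apply, MulAut.mul_apply, ih, hgU]
      ext u
      rw [h3, ← hg, pow_orderOf_eq_one]
      rfl
    rintro ⟨_, n, rfl⟩
    refine ⟨1, Subtype.ext ?_⟩
    change (gU ^ n) ^ 7 ^ 1 = 1
    rw [pow_one, ← zpow_natCast, ← zpow_mul, mul_comm, zpow_mul, zpow_natCast, h2, one_zpow]
  have hfixU := card_fixp_modEq hgUp
  have hfu : Nat.card (Frob.fixp gU) = 2 := by
    apply le_antisymm
    · rw [← hfc]
      refine Nat.card_le_card_of_injective (fun u => (⟨(u : U), ?_⟩ : Frob.fixp g)) ?_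
      · have h2 : gU (u : U) = u := u.2
        exact congrArg Subtype.val h2
      · intro u u' huu
        exact Subtype.ext (Subtype.ext (congrArg (fun t : Frob.fixp g => (t : Vb M C)) huu))
    · have hvU : vm m0 h0 ∈ U := by
        rw [hU, mem_perp h h0]
      have h2 : (⟨vm m0 h0, hvU⟩ : U) ∈ Frob.fixp gU := Subtype.ext hv0
      have h3 : Nontrivial (Frob.fixp gU) := ⟨⟨⟨_, h2⟩, 1, fun h4 => hv01' (congrArg
        (fun t : Frob.fixp gU => ((t : U) : Vb M C)) h4)⟩⟩
      exact Finite.one_lt_card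
  rw [hU8, hfu] at hfixU
  exact absurd hfixU (by decide)

end Seven

/-- **task E3** -/
theorem row_32 {H : Type u} [Group H] [Finite H] {A M C : Subgroup H} {W : Type v}
    [AddCommGroup W] [Module (ZMod 3) W] [Finite W] {ρ : C →* (W ≃ₗ[ZMod 3] W)}
    (h : BSit 3 1 A M C ρ) (hM : Nat.card M = 16 * Nat.card A) (hW : Nat.card W = 81) : BGood 1 C W := by
  have hZ := zc_normal h
  have hMn := h.nM
  have hM2 : Nat.card M = 2 ^ 4 * Nat.card A := hM
  have hsq := sq_mem h hM2
  have hcm := comm_mem h hM2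
  have hV : Nat.card (Vb M C) = 16 := by
    have h1 := card_V h
    rw [hM] at h1
    exact (Nat.eq_of_mul_eq_mul_right Nat.card_pos h1).symm
  have hV2 : 2 < Nat.card (Vb M C) := by rw [hV]; norm_num
  have hfA : Finite (MulAut (Vb M C)) := finite_mulAut
  have h3 : ¬ 3 ∣ Nat.card (phi M C).range := fun h3 => h.cop (h3.trans (Subgroup.card_range_dvd _))
  have h7 := no_seven h hsq hcm hV
  -- orbits
  have hdvd : ∀ v : Vb M C, Nat.card (MulAction.orbit (phi M C).range v) ∣ Nat.card (phi M C).range := by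
    intro v
    rw [Nat.card_coe_set_eq, ← MulAction.index_stabilizer]
    exact Subgroup.index_dvd_card _
  have hge : ∀ v : Vb M C, v ≠ 1 → 5 ≤ Nat.card (MulAction.orbit (phi M C).range v) := by
    intro v hv
    have h1 := (orbit_V h hsq hcm hV2 hv).2
    rw [hV] at h1
    by_contra hcon
    have h2 : Nat.card (MulAction.orbit (phi M C).range v) - 1 ≤ 3 := by omega
    have h4 : 2 ^ (Nat.card (MulAction.orbit (phi M C).range v) - 1) ≤ 2 ^ 3 := Nat.pow_le_pow_right (by norm_num) h2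
    omega
  have hsub : ∀ v : Vb M C, v ≠ 1 → ∀ w ∈ MulAction.orbit (phi M C).range v, w ≠ 1 := by
    rintro v hv _ ⟨q, rfl⟩ h1
    exact hv ((MulEquiv.map_eq_one_iff (q : MulAut (Vb M C))).1 h1)
  have hne1 : ({w : Vb M C | w ≠ 1} : Set (Vb M C)).ncard = 15 := by
    have h1 : ({w : Vb M C | w ≠ 1} : Set (Vb M C)) = {1}ᶜ := rfl
    rw [h1, Set.ncard_compl, Set.ncard_singleton, hV]
  have hfive : ∃ v : Vb M C, v ≠ 1 ∧ Nat.card (MulAction.orbit (phi M C).range v) = 5 := by
    have small : ∀ v : Vb M C, v ≠ 1 → Nat.card (MulAction.orbit (phi M C).range v) ≤ 7 →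
        Nat.card (MulAction.orbit (phi M C).range v) = 5 := by
      intro v hv hle
      have h1 := hge v hv
      have h2 := hdvd v
      generalize Nat.card (MulAction.orbit (phi M C).range v) = n at *
      interval_cases n
      · rfl
      · exact absurd ((by norm_num : 3 ∣ 6).trans h2) h3
      · exact absurd h2 h7
    have hnt : Nontrivial (Vb M C) := by
      rw [← Finite.one_lt_card_iff_nontrivial, hV]
      norm_num
    obtain ⟨v, hv⟩ := exists_ne (1 : Vb M C)
    have h1 : (MulAction.orbit (phi M C).range v) ≠ {w | w ≠ 1} := by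
      intro h1
      apply h3
      have h2 := hdvd v
      rw [Nat.card_coe_set_eq, h1, hne1] at h2
      exact (by norm_num : 3 ∣ 15).trans h2
    obtain ⟨w, hw1, hw⟩ : ∃ w : Vb M C, w ≠ 1 ∧ w ∉ MulAction.orbit (phi M C).range v := by
      by_contra hcon
      push Not at hcon
      exact h1 (Set.Subset.antisymm (hsub v hv) hcon)
    have h2 : (MulAction.orbit (phi M C).range v).ncard + (MulAction.orbit (phi M C).range w).ncard ≤ 15 := by
      rw [← hne1, ← Set.ncard_union_eq]
      · exact Set.ncard_le_ncard (Set.union_subset (hsub v hv) (hsub w hw1))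
      · rw [Set.disjoint_left]
        intro x hx hx'
        apply hw
        rw [← MulAction.orbit_eq_iff.2 hx, MulAction.orbit_eq_iff.2 hx']
        exact MulAction.mem_orbit_self w
    rcases Nat.lt_or_ge 7 (Nat.card (MulAction.orbit (phi M C).range v)) with h4 | h4
    · refine ⟨w, hw1, small w hw1 ?_⟩
      rw [Nat.card_coe_set_eq] at h4 ⊢
      omega
    · exact ⟨v, hv, small v hv h4⟩
  obtain ⟨v, hv, hv5⟩ := hfive
  obtain ⟨P, F⟩ := frob_V h hsq hcm hV2 hv Nat.prime_five hv5 (fun n hn hn2 h1 => by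
      have h2 : 5 * n ∣ 5 * 24 := hn
      have h4 := Nat.dvd_of_mul_dvd_mul_left (by norm_num) h2
      have h5 := Nat.le_of_dvd (by norm_num) h4
      have h6 : ¬ 3 ∣ n := fun h6 => h3 (h6.trans ((Dvd.intro_left _ rfl).trans hn2))
      clear hn hn2 h2
      interval_cases n <;> first | rfl | (exfalso; revert h1 h4 h6; decide)) (fun n hn h1 => by
      rw [hV] at hn h1 ⊢
      have h4 := Nat.le_of_dvd (by norm_num) hn
      interval_cases n <;> first | exact Or.inl rfl | exact Or.inr rfl | (exfalso; revert h1 hn; decide))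
  have hq := card_zc h
  intro N hN hNC
  rw [hW]
  rcases main h hsq hcm F (u := 4) (fun k hk => by
      rw [hV] at hk
      by_contra hcon
      have : 5 ≤ k := by omega
      nlinarith) hN hNC with h1 | ⟨j, h1, h2, h4⟩
  · rw [hV] at h1
    have h5 : Nat.card (Zc M C) ≤ 2 := hq
    omega
  · rw [hV] at h4
    have h5 : Nat.card (Zc M C) ≤ 2 := hq
    have h6 : j = 1 ∨ j = 2 ∨ j = 3 ∨ j = 4 := by omega
    rcases h6 with rfl | rfl | rfl | rfl
    · norm_num at h4
      omega
    · norm_num at h4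
      omega
    · norm_num at h4
      omega
    · norm_num at h4
      omega

end Cfsg.Agent.H173.KGL
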