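import Cfsg.Agent.H173.KGL.Orbit

/-!
# Project KGL, task E2: `|M / A| = 4`, `|W| = q²` (helper173)
-/

set_option autoImplicit false
set_option linter.unusedSectionVars false

namespace Cfsg.Agent.H173.KGL

open Subgroup Cfsg.Agent.H475.KGL

universe u v

section Base

variable {p e : ℕ} [Fact p.Prime] {H : Type u} [Group H] [Finite H] {A M C : Subgroup H} {W : Type v}
  [AddCommGroup W] [Module (ZMod p) W] [Finite W] {ρ : C →* (W ≃ₗ[ZMod p] W)}

/-- the commutative group structure of `V` -/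
abbrev Vcomm [hZ : (Zc M C).Normal] (hc : ∀ v w : Vb M C, v * w = w * v) : CommGroup (Vb M C) :=
  { (inferInstance : Group (Vb M C)) with mul_comm := hc }

/-- the orbits on `V` -/
theorem orbit_V [hZ : (Zc M C).Normal] [hM : M.Normal] (h : BSit p e A M C ρ) (hsq : ∀ x ∈ M, x * x ∈ A)
    (hcm : ∀ x ∈ M, ∀ y ∈ M, x * y * x⁻¹ * y⁻¹ ∈ A) (hV : 2 < Nat.card (Vb M C)) {v : Vb M C} (hv : v ≠ 1) :
    closure (MulAction.orbit (phi M C).range v) = ⊤ ∧
      Nat.card (Vb M C) ≤ 2 ^ (Nat.card (MulAction.orbit (phi M C).range v) - 1) := by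
  let _ : CommGroup (Vb M C) := Vcomm (V_comm h hcm)
  refine orbit_ge (V := Vb M C) (V_sq h hsq) hV (phi M C).range (fun U hU => ?_) hv
  exact V_irr h U fun g u hu => hU _ ⟨g, rfl⟩ u hu

/-- an orbit of prime length -/
theorem frob_V [hZ : (Zc M C).Normal] [hM : M.Normal] (h : BSit p e A M C ρ) (hsq : ∀ x ∈ M, x * x ∈ A)
    (hcm : ∀ x ∈ M, ∀ y ∈ M, x * y * x⁻¹ * y⁻¹ ∈ A) (hV : 2 < Nat.card (Vb M C)) {v : Vb M C} (hv : v ≠ 1)
    {r : ℕ} (hr : r.Prime) (ho : Nat.card (MulAction.orbit (phi M C).range v) = r)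
    (hidx : ∀ n, r * n ∣ r.factorial → r * n ∣ Nat.card (phi M C).range → n ≡ 1 [MOD r] → n = 1)
    (hfix : ∀ n, n ∣ Nat.card (Vb M C) → Nat.card (Vb M C) ≡ n [MOD r] → n = 1 ∨ n = Nat.card (Vb M C)) :
    ∃ P, Frob r P (phi M C).range := by
  obtain ⟨h1, -⟩ := orbit_V h hsq hcm hV hv
  refine frob_of_orbit (phi M C).range hr (MulAction.orbit (phi M C).range v) ho ?_ ?_ ?_ hidx hfix
  · intro q hq o ho
    exact (MulAction.mem_orbit_of_mem_orbit (⟨q, hq⟩ : (phi M C).range) ho)
  · rintro _ ⟨q, rfl⟩ _ ⟨q', rfl⟩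
    refine ⟨(q' * q⁻¹ : (phi M C).range), (q' * q⁻¹ : (phi M C).range).2, ?_⟩
    change (q' * q⁻¹) • (q • v) = q' • v
    rw [← mul_smul, inv_mul_cancel_right]
  · intro q hq hfixq
    have h2 : closure (MulAction.orbit (phi M C).range v) ≤ Frob.fixp q := by
      rw [closure_le]
      exact fun o ho => hfixq o ho
    rw [h1] at h2
    ext w
    exact congrArg Subtype.val (h2 (mem_top w) : q w = w)

theorem card_C_le [hZ : (Zc M C).Normal] [hM : M.Normal] (h : BSit p e A M C ρ) (hsq : ∀ x ∈ M, x * x ∈ A)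
    (hcm : ∀ x ∈ M, ∀ y ∈ M, x * y * x⁻¹ * y⁻¹ ∈ A) :
    Nat.card C ≤ Nat.card (C.map (phi M C)) * (Nat.card (Vb M C) * Nat.card (Zc M C)) := by
  set f := (phi M C).comp C.subtype with hf
  have h1 : Nat.card C = Nat.card f.ker * Nat.card f.range := by
    rw [← f.ker.card_mul_index, Subgroup.index_ker]
  have h2 : f.range = C.map (phi M C) := by rw [hf, MonoidHom.range_comp, C.range_subtype]
  rw [h1, h2, mul_comm]
  apply Nat.mul_le_mul_left
  set g := (QuotientGroup.mk' (Zc M C)).comp C.subtype with hg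
  have h3 : Nat.card f.ker ≤ Nat.card ((Vb M C).comap g) := by
    refine Subgroup.card_le_of_le fun x hx => ?_
    exact mem_V_of_phi h hsq hcm x.2 (MonoidHom.mem_ker.1 hx)
  refine h3.trans ?_
  rw [card_comap, mul_comm]
  refine Nat.mul_le_mul (Subgroup.card_le_of_le (map_comap_le _ _)) ?_
  refine Nat.card_le_card_of_injective (fun y => (⟨(y : C), ?_⟩ : Zc M C)) ?_
  · exact mk_eq_one.1 (MonoidHom.mem_ker.1 y.2)
  · intro y y' hyy
    exact Subtype.ext (Subtype.ext (congrArg (fun t : Zc M C => (t : H)) hyy))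

theorem num1 {p e : ℕ} (hp : 5 ≤ p) (he : 1 ≤ e) (h : ¬ (p = 5 ∧ e = 1)) (hp6 : p ≠ 6) :
    2 * e * (4 * (p ^ e - 1)) ≤ (p ^ e) ^ 2 := by
  rcases Nat.lt_or_ge 1 e with h1 | h1
  · have h2 : 8 * e ≤ 5 ^ e := by
      obtain ⟨k, rfl⟩ : ∃ k, e = k + 2 := ⟨e - 2, by omega⟩
      clear h he h1
      induction k with
      | zero => norm_num
      | succ k ih =>
        have e1 : 5 ^ (k + 1 + 2) = 5 ^ (k + 2) * 5 := by ring
        omega
    have h3 : 5 ^ e ≤ p ^ e := Nat.pow_le_pow_left hp e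
    calc 2 * e * (4 * (p ^ e - 1)) = 8 * e * (p ^ e - 1) := by ring
      _ ≤ p ^ e * (p ^ e) := Nat.mul_le_mul (h2.trans h3) (Nat.sub_le _ _)
      _ = _ := by ring
  · have h2 : e = 1 := by omega
    subst h2
    rw [pow_one]
    have h3 : 7 ≤ p := by
      have : p ≠ 5 := fun h5 => h ⟨h5, rfl⟩
      omega
    obtain ⟨k, rfl⟩ := Nat.exists_eq_add_of_le h3
    have : 7 + k - 1 = 6 + k := by omega
    rw [this]
    nlinarith

/-- **task E2** -/
theorem row_n1 (h : BSit p e A M C ρ) (hM : Nat.card M = 4 * Nat.card A)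
    (hW : Nat.card W = (p ^ e) ^ 2) : BGood e C W ∨ BExc p e C W := by
  have hZ := zc_normal h
  have hMn := h.nM
  have hM2 : Nat.card M = 2 ^ 2 * Nat.card A := hM
  have hsq := sq_mem h hM2
  have hcm := comm_mem h hM2
  have hV : Nat.card (Vb M C) = 4 := by
    have h1 := card_V h
    rw [hM] at h1
    exact (Nat.eq_of_mul_eq_mul_right Nat.card_pos h1).symm
  have hnt : Nontrivial (Vb M C) := by
    rw [← Finite.one_lt_card_iff_nontrivial, hV]
    norm_num
  obtain ⟨v, hv⟩ := exists_ne (1 : Vb M C)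
  have ho : Nat.card (MulAction.orbit (phi M C).range v) = 3 := by
    apply le_antisymm
    · have h1 : (MulAction.orbit (phi M C).range v) ⊆ {w | w ≠ 1} := by
        rintro _ ⟨q, rfl⟩ h1
        exact hv ((MulEquiv.map_eq_one_iff (q : MulAut (Vb M C))).1 h1)
      have h2 : Nat.card (MulAction.orbit (phi M C).range v) ≤ Nat.card {w : Vb M C // w ≠ 1} :=
        Nat.card_le_card_of_injective (fun x => ⟨x, h1 x.2⟩) fun x y hxy => Subtype.ext (congrArg
          (fun t : {w : Vb M C // w ≠ 1} => (t : Vb M C)) hxy)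
      refine h2.trans (le_of_eq ?_)
      classical
      have : Fintype (Vb M C) := Fintype.ofFinite _
      rw [Nat.card_eq_fintype_card, Fintype.card_subtype_compl, Fintype.card_subtype_eq, ← Nat.card_eq_fintype_card, hV]
    · have h1 := (orbit_V h hsq hcm (by rw [hV]; norm_num) hv).2
      rw [hV] at h1
      by_contra hcon
      have h2 : Nat.card (MulAction.orbit (phi M C).range v) - 1 ≤ 1 := by omega
      have h3 : 2 ^ (Nat.card (MulAction.orbit (phi M C).range v) - 1) ≤ 2 ^ 1 := Nat.pow_le_pow_right (by norm_num) h2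
      omega
  obtain ⟨P, F⟩ := frob_V h hsq hcm (by rw [hV]; norm_num) hv Nat.prime_three ho (fun n hn _ h1 => by
      have h2 : 3 * n ∣ 3 * 2 := hn
      have h3 := Nat.dvd_of_mul_dvd_mul_left (by norm_num) h2
      have h4 := Nat.le_of_dvd (by norm_num) h3
      interval_cases n
      · exact absurd h1 (by decide)
      · rfl
      · exact absurd h1 (by decide)) (fun n hn h1 => by
      rw [hV] at hn h1 ⊢
      have h4 := Nat.le_of_dvd (by norm_num) hn
      interval_cases n
      · exact absurd hn (by norm_num)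
      · exact Or.inl rfl
      · exact absurd h1 (by decide)
      · exact absurd hn (by norm_num)
      · exact Or.inr rfl)
  -- the class numbers
  have hq := card_zc h
  have hk : ∀ N : Subgroup H, N.IsSubnormal → N ≤ C → kc N ≤ 4 * (p ^ e - 1) := by
    intro N hN hNC
    rcases main h hsq hcm F (u := 2) (fun k hk => by
      rw [hV] at hk
      by_contra hcon
      have : 3 ≤ k := by omega
      nlinarith) hN hNC with h1 | ⟨j, h1, h2, h3⟩
    · rw [hV] at h1
      exact h1.trans (Nat.mul_le_mul_left 4 hq)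
    · rw [hV] at h3
      have h4 : j = 1 ∨ j = 2 := by omega
      rcases h4 with rfl | rfl
      · norm_num at h3
        omega
      · norm_num at h3
        omega
  -- the prime
  have hdvd2 : 2 ∣ Nat.card H := by
    have h1 : Nat.card M ∣ Nat.card H := Subgroup.card_subgroup_dvd_card M
    exact (Dvd.intro _ (show 2 * (2 * Nat.card A) = Nat.card M by rw [hM]; ring)).trans h1
  have hdvd3 : 3 ∣ Nat.card H := by
    have h1 : 3 ∣ Nat.card (phi M C).range := by
      rw [← F.card]
      exact Subgroup.card_dvd_of_le F.le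
    exact h1.trans (Subgroup.card_range_dvd _)
  have hp : p.Prime := Fact.out
  have hp2 : p ≠ 2 := by rintro rfl; exact h.cop hdvd2
  have hp3 : p ≠ 3 := by rintro rfl; exact h.cop hdvd3
  have hp4 : p ≠ 4 := by rintro rfl; exact absurd hp (by norm_num)
  have hp5 : 5 ≤ p := by
    have := hp.two_le
    omega
  have hp6 : p ≠ 6 := by rintro rfl; exact absurd hp (by norm_num)
  have he : 1 ≤ e := by
    rcases Nat.eq_zero_or_pos e with h1 | h1
    · exfalso
      rw [h1, pow_zero, one_pow] at hW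
      have h2 := h.nt
      rw [← Finite.one_lt_card_iff_nontrivial, hW] at h2
      exact lt_irrefl _ h2
    · exact h1
  by_cases hexc : p = 5 ∧ e = 1
  · right
    obtain ⟨rfl, rfl⟩ := hexc
    refine ⟨rfl, rfl, by rw [hW]; norm_num, ?_, fun N hN hNC => (hk N hN hNC).trans (by norm_num)⟩
    have h1 := card_C_le h hsq hcm
    have h2 : Nat.card (C.map (phi M C)) ≤ (3 - 1) * 3 := F.card_le (by
      rw [MonoidHom.range_eq_map]
      exact map_mono le_top)
    rw [hV] at h1
    have h3 : Nat.card (Zc M C) ≤ 4 := hq.trans (by norm_num)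
    calc Nat.card C ≤ Nat.card (C.map (phi M C)) * (4 * Nat.card (Zc M C)) := h1
      _ ≤ ((3 - 1) * 3) * (4 * 4) := Nat.mul_le_mul h2 (Nat.mul_le_mul_left 4 h3)
      _ = 96 := by norm_num
  · left
    intro N hN hNC
    rw [hW]
    exact (Nat.mul_le_mul_left _ (hk N hN hNC)).trans (num1 hp5 he hexc hp6)

end Base

end Cfsg.Agent.H173.KGL
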